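import Cfsg.Agent.H931.A7D.PathB

/-!
# `2.A₇` in degree 12, characteristic three: the monomial module of degree 70 (helper931)

`a = (0 1 2)`, `b = (3 4 5)` (lifts of order three), `h` the lift `0 1 3 0 0 2` of `(0 3 1 4)(2 5)`: the cosets of
`⟨a, b⟩ ⟨h⟩` in `2.A₇` are numbered from 0 to 69.
-/

set_option autoImplicit false
set_option linter.unusedSectionVars false
set_option maxRecDepth 100000

namespace Cfsg.Agent.H931.A7D

open Module Subgroup Cfsg.Agent.H637.JW Cfsg.Agent.H882.Dim Cfsg.Agent.H882.Sc Cfsg.Agent.H637.A7Cov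

universe u

/-- the element of order eight -/
def hw : List (Fin 5) := [0, 1, 3, 0, 0, 2]

/-- coset representatives of `3² : 8` -/
def TC : List (List (Fin 5)) :=
  [[], [1], [2], [3], [4], [0, 1], [0, 2],
    [0, 3], [0, 4], [1, 2], [1, 3], [1, 4], [2, 3], [2, 4],
    [3, 4], [4, 1], [4, 2], [4, 3], [0, 0, 4], [0, 1, 4], [0, 2, 4],
    [0, 3, 4], [0, 4, 1], [0, 4, 2], [0, 4, 3], [1, 0, 4], [1, 1, 4], [1, 2, 4],
    [1, 3, 4], [2, 0, 4], [2, 1, 4], [2, 2, 4], [2, 3, 4], [3, 0, 4], [3, 1, 4],
    [3, 2, 4], [3, 3, 4], [4, 0, 1], [4, 0, 2], [4, 0, 3], [4, 1, 2], [4, 1, 3],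
    [4, 2, 3], [4, 4, 1], [4, 4, 2], [4, 4, 3], [0, 0, 4, 1], [0, 0, 4, 2], [0, 0, 4, 3],
    [0, 1, 1, 4], [0, 1, 2, 4], [0, 1, 3, 4], [0, 2, 1, 4], [0, 2, 2, 4], [0, 2, 3, 4], [0, 3, 1, 4],
    [0, 3, 2, 4], [0, 3, 3, 4], [0, 4, 4, 1], [0, 4, 4, 2], [0, 4, 4, 3], [1, 0, 4, 2], [1, 0, 4, 3],
    [1, 4, 4, 1], [2, 0, 4, 1], [2, 0, 4, 3], [2, 4, 4, 2], [3, 0, 4, 1], [3, 0, 4, 2], [3, 4, 4, 3]]

/-- the elements `aⁱ bʲ hᵏ`, `k < 4` -/
def EH : List (List (Fin 5)) :=
  [[], [0, 1, 3, 0, 0, 2], [2, 1, 1, 2], [0, 2, 3, 0, 0, 1],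
    [0, 1, 0, 3, 2, 2, 1], [1, 1, 0, 2, 3], [1, 3, 3, 1], [1, 1, 0, 1, 3, 2],
    [0, 1, 0, 2, 3, 3, 1], [1, 1, 0, 2, 3, 0], [3, 2, 2, 3], [1, 2, 0, 0, 3],
    [0], [2, 2, 0, 3, 1, 0], [0, 2, 1, 1, 2], [1, 1, 0, 3, 2, 0],
    [1, 0, 3, 1, 2, 0, 1], [0, 1, 1, 0, 2, 3], [0, 1, 3, 3, 1], [1, 1, 0, 3, 2],
    [1, 0, 2, 1, 3, 0, 1], [2, 2, 0, 3, 1], [0, 3, 2, 2, 3], [0, 1, 2, 0, 0, 3],
    [0, 0], [1, 3, 0, 0, 2], [2, 0, 1, 2, 2], [2, 3, 0, 0, 1],
    [1, 0, 3, 2, 2, 1], [1, 1, 0, 1, 2, 3], [1, 0, 3, 1, 1], [0, 1, 1, 0, 3, 2],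
    [1, 0, 2, 3, 3, 1], [0, 2, 2, 0, 3, 1], [3, 0, 2, 3, 3], [2, 1, 0, 1, 1, 3]]

/-- the action on the cosets -/
def tabN : Fin 5 → ℕ
  | 0 => 1959092083662559994574398034688380590956724286307851087993224151045142209053438273796171262148763607415780468367517484016569935422770469464660032761566393052414337238225277244416491526685842785480840458518514832352228607662048198575559937971041461318098831718747761887752979850395981232285500928
  | 1 => 2829198868645931933426216119582909072059129676232140999666465651732139549069945909222821205697832043822885167310668669415674864479343672538138423647044844457390544297128925219952633269837234123087618484614793377606199191324475704779527620790104265097885113790619213421127230379743950733450493953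
  | 2 => 2349850724506289508402207608159479382516558794825656838536922827322463883282468407042232055391954624074606524831294374316890576396235592199333321326205588170661765729012734263349409868040330106606686468560874281060176283327612586985726110836610281420928990261880593044847867313997405042109464578
  | 3 => 982645803571358843347964267445860346504068584088058108626434949021633827413540176189565457520214942513397231277964459188512151273573452497324245275230491104535011912619895203139224881155095289430119321590784907238621922379811829586736369220019408701009435845329112839589454280524413080699043843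
  | 4 => 6088055727000057191835215652680335402944439795079484339835423128986418962391903348465716046994974244571057907282753324163204052055151126398107784738031177749527778928992024660083243215018918605877566488524421889092148831949409576918642354475422727550278156852160779164815301461100790018470035460

/-- eight cosets -/
def B8 : List ℕ := [33, 35, 36, 55, 3, 4, 54, 47]

/-- percolation -/
def st8 : List (List (Fin 5) × ℕ) :=
  [([4, 4], 57), ([0, 1], 68), ([], 67), ([0], 56), ([1], 33), ([], 56),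
    ([4, 3], 26), ([1, 3, 3], 23), ([0, 2, 3, 4], 29), ([1, 0, 3], 49), ([3, 0, 1], 17), ([0, 3, 4, 0], 62),
    ([4, 1], 29), ([2, 3], 63), ([3], 59), ([0, 4, 4], 32), ([1], 13), ([1, 3], 48),
    ([1, 1], 51), ([3], 31), ([3, 0], 11), ([0, 3], 48), ([3, 0], 22), ([0], 40),
    ([1], 38), ([3], 30), ([2], 29), ([0], 15), ([1], 45), ([3], 32),
    ([0, 1], 44), ([4], 31), ([], 58), ([0], 28), ([], 37), ([0], 62),
    ([], 38), ([1], 32), ([], 21), ([3], 15), ([], 41), ([1], 41),
    ([], 42), ([1], 61), ([0], 49), ([2], 45), ([], 15), ([0], 4),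
    ([], 60), ([0], 13), ([], 61), ([0], 31), ([], 13), ([4], 8),
    ([4], 11), ([4], 13), ([4], 14), ([2], 0), ([0], 5), ([], 9),
    ([1], 0), ([], 10)]

/-- the certificate for `s = 1`, target `0`, allowed `[]` -/
def certP : List (ℕ × List (Fin 5) × ℕ) :=
  [(0, [1, 0, 3], 1), (6, [], 7), (5, [3], 6), (6, [], 3), (7, [0, 3], 6)]

/-- the certificate for `s = -1`, target `69`, allowed `[9, 3, 7]` -/
def certM : List (ℕ × List (Fin 5) × ℕ) :=
  [(4, [0, 0, 3], 17), (6, [0, 3], 34), (0, [3], 21), (6, [3, 4], 1), (6, [1, 2, 3, 4], 40)]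

/-- words of `2.A₆` moving the coset 69 to the others -/
def W6 : List (List (Fin 5)) :=
  [[], [], [], [], [3, 2, 0, 0, 1], [], [],
    [], [2, 3, 0, 0, 1], [], [], [0, 3, 2], [], [0, 3, 1],
    [0, 3, 2, 1], [3, 0, 0, 2], [3, 0, 0, 1], [3, 0, 2, 1], [2, 0, 0, 3, 1], [0, 0, 3, 2], [0, 0, 3, 1],
    [0, 0, 3, 2, 1], [2, 3], [1, 3], [2, 3, 0, 1], [0, 1, 2, 3], [1, 0, 3, 2], [1, 0, 3, 1],
    [1, 0, 3, 2, 1], [0, 2, 1, 3], [2, 0, 3, 2], [2, 0, 3, 1], [2, 0, 3, 2, 1], [0, 2, 1], [0, 0, 2],
    [0, 0, 1], [2, 0, 0, 1], [3, 0, 1], [3, 0, 2], [3], [3, 2, 1], [3, 1],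
    [3, 2], [3, 3, 1], [3, 3, 2], [0, 3], [0, 2, 3], [0, 1, 3], [0, 2, 3, 0, 1],
    [1, 2, 3], [1, 0, 3], [1, 3, 3, 2], [2, 0, 3], [2, 1, 3], [2, 3, 3, 1], [2],
    [1], [2, 1], [0, 3, 3, 1], [0, 3, 3, 2], [0, 0, 3], [1, 1, 3], [3, 1, 2, 3],
    [1, 3, 3, 1], [2, 2, 3], [3, 2, 1, 3], [2, 3, 3, 2], [0, 2], [0, 1], []]

/-- coset representative -/
def T (c : ℕ) : List (Fin 5) := TC.getD c []

/-- table entries -/
def tEnt (i : Fin 5) (c : ℕ) : ℕ := (tabN i >>> (14 * c)) % 16384
/-- the image -/
def nx (i : Fin 5) (c : ℕ) : ℕ := tEnt i c % 128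
/-- the index in `EH` -/
def jx (i : Fin 5) (c : ℕ) : ℕ := tEnt i c / 128 % 64
/-- the sign -/
def sx (i : Fin 5) (c : ℕ) : ℕ := tEnt i c / 8192
/-- the exponent -/
def kx (i : Fin 5) (c : ℕ) : ℕ := jx i c % 4 + 4 * sx i c

/-- verification of a table entry -/
def chkT (i : Fin 5) (c : ℕ) : Bool :=
  decide (nx i c < 70) && (decide (jx i c < 36) &&
    if sx i c = 0 then codeW (i :: T c) == codeW (T (nx i c) ++ EH.getD (jx i c) [])
    else sx i c == 1 && codeW (i :: T c) == negC (codeW (T (nx i c) ++ EH.getD (jx i c) [])))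

theorem chkT_all : ∀ i : Fin 5, ((List.range 70).all fun c => chkT i c) = true := by
  decide +kernel

theorem chkE : ((List.range 36).all fun j => codeW (EH.getD j []) == codeW ((List.replicate (j / 12) [0]).flatten ++
    ((List.replicate (j / 4 % 3) (w3 345)).flatten ++ (List.replicate (j % 4) hw).flatten))) = true := by
  decide +kernel

variable {K : Type*} [Field K] [IsAlgClosed K] {V : Type*} [AddCommGroup V] [Module K V] [FiniteDimensional K V]
  {D : Type u} [Group D] {π : D →* alternatingGroup (Fin 7)} {g : Fin 5 → D} {z : D}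
  {β : D →* Matrix.GeneralLinearGroup (Fin 4) (ZMod 7)} (H : Cov π g z β) {σ : D →* Module.End K V}

theorem wd_rep (w : List (Fin 5)) (n : ℕ) : wd g (List.replicate n w).flatten = wd g w ^ n := by
  induction n with
  | zero => simp [wd]
  | succ n ih => rw [List.replicate_succ, List.flatten_cons, wd_append, ih, pow_succ']

/-- fixed by `3²`, eigenvector for the element of order eight -/
structure Vec (σ : D →* Module.End K V) (g : Fin 5 → D) (lam : K) (v : V) : Prop where
  ha : σ (g 0) v = v
  hb : σ (wd g (w3 345)) v = v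
  hh : σ (wd g hw) v = lam • v
  hl : lam ^ 4 = -1
  h0 : v ≠ 0

theorem pow_act' {x : D} {μ : K} {v : V} (h : σ x v = μ • v) (n : ℕ) : σ (x ^ n) v = μ ^ n • v := by
  induction n with
  | zero => rw [pow_zero, act_one, pow_zero, one_smul]
  | succ n ih => rw [pow_succ, mul_apply', h, map_smul, ih, smul_smul, pow_succ, mul_comm]

/-- the monomial vectors -/
def uu (σ : D →* Module.End K V) (g : Fin 5 → D) (v : V) (c : ℕ) : V := σ (wd g (T c)) v

include H in
theorem Cov.EH_act {lam : K} {v : V} (X : Vec σ g lam v) {j : ℕ} (hj : j < 36) :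
    σ (wd g (EH.getD j [])) v = lam ^ (j % 4) • v := by
  have h1 := List.all_eq_true.1 chkE j (List.mem_range.2 hj)
  have h2 : wd g (EH.getD j []) = wd g ((List.replicate (j / 12) [0]).flatten ++
    ((List.replicate (j / 4 % 3) (w3 345)).flatten ++ (List.replicate (j % 4) hw).flatten)) := H.wd_eq (eq_of_beq h1)
  rw [h2, wd_append, wd_append, wd_rep, wd_rep, wd_rep, mul_apply', mul_apply', pow_act' X.hh, map_smul, map_smul,
    fix_pow X.hb, gens_wd, fix_pow X.ha]

include H in
theorem Cov.step (hz : σ z = -1) {lam : K} {v : V} (X : Vec σ g lam v) (i : Fin 5) {c : ℕ} (hc : c < 70) :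
    nx i c < 70 ∧ σ (g i) (uu σ g v c) = lam ^ kx i c • uu σ g v (nx i c) := by
  have h1 := List.all_eq_true.1 (chkT_all i) c (List.mem_range.2 hc)
  unfold chkT at h1
  rw [Bool.and_eq_true, Bool.and_eq_true, decide_eq_true_eq, decide_eq_true_eq] at h1
  obtain ⟨h2, h3, h4⟩ := h1
  refine ⟨h2, ?_⟩
  have h5 : σ (g i) (uu σ g v c) = σ (wd g (i :: T c)) v := by
    have : wd g (i :: T c) = g i * wd g (T c) := rfl
    rw [this, mul_apply']
    rfl
  have h6 : σ (wd g (T (nx i c) ++ EH.getD (jx i c) [])) v = lam ^ (jx i c % 4) • uu σ g v (nx i c) := by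
    rw [wd_append, mul_apply', H.EH_act X h3, map_smul]
    rfl
  rw [h5]
  split_ifs at h4 with h7
  · rw [H.wd_eq (eq_of_beq h4), h6, kx, h7, mul_zero, add_zero]
  · rw [Bool.and_eq_true] at h4
    obtain ⟨h8, h9⟩ := h4
    have h10 : sx i c = 1 := eq_of_beq h8
    rw [H.wd_neg (w' := T (nx i c) ++ EH.getD (jx i c) []) (eq_of_beq h9), map_mul, hz, Module.End.mul_apply, h6,
      kx, h10, mul_one, pow_add, X.hl, mul_neg_one, neg_smul]
    rfl

/-- the action of words -/
def walk : List (Fin 5) → ℕ × ℕ → ℕ × ℕ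
  | [], p => p
  | i :: w, p => (nx i (walk w p).1, (walk w p).2 + kx i (walk w p).1)

include H in
theorem Cov.walk_spec (hz : σ z = -1) {lam : K} {v : V} (X : Vec σ g lam v) (w : List (Fin 5)) {p : ℕ × ℕ}
    (hp : p.1 < 70) : (walk w p).1 < 70 ∧
      σ (wd g w) (lam ^ p.2 • uu σ g v p.1) = lam ^ (walk w p).2 • uu σ g v (walk w p).1 := by
  induction w with
  | nil =>
    refine ⟨hp, ?_⟩
    have : wd g [] = 1 := rfl
    rw [this, act_one]
    rfl
  | cons i w ih =>
    obtain ⟨h1, h2⟩ := ih
    obtain ⟨h3, h4⟩ := H.step hz X i h1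
    refine ⟨h3, ?_⟩
    have : wd g (i :: w) = g i * wd g w := rfl
    rw [this, mul_apply', h2, map_smul, h4, smul_smul, ← pow_add]
    rfl

/-- relation rows -/
def row (ws : List (List (Fin 5))) (d : List (Fin 5)) (c m : ℕ) : List (ℕ × ℕ) :=
  ws.map fun w => walk (d ++ w) (c, m)

include H in
theorem Cov.row_lt (hz : σ z = -1) {lam : K} {v : V} (X : Vec σ g lam v) (ws : List (List (Fin 5)))
    (d : List (Fin 5)) {c : ℕ} (hc : c < 70) (m : ℕ) : ∀ p ∈ row ws d c m, p.1 < 70 := by
  intro p hp
  obtain ⟨w, _, rfl⟩ := List.mem_map.1 hp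
  exact (H.walk_spec hz X _ hc).1

include H in
theorem Cov.row_zero (hz : σ z = -1) {lam : K} {v : V} (X : Vec σ g lam v) {ws : List (List (Fin 5))}
    (hws : (ws.map fun w => σ (wd g w)).sum = 0) (d : List (Fin 5)) {c : ℕ} (hc : c < 70) (m : ℕ) :
    ((row ws d c m).map fun p => lam ^ p.2 • uu σ g v p.1).sum = 0 := by
  have key : ∀ l : List (List (Fin 5)), ((row l d c m).map fun p => lam ^ p.2 • uu σ g v p.1).sum =
      σ (wd g d) (((l.map fun w => σ (wd g w)).sum) (lam ^ m • uu σ g v c)) := by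
    intro l
    induction l with
    | nil => simp [row]
    | cons w l ih =>
      have h1 : row (w :: l) d c m = walk (d ++ w) (c, m) :: row l d c m := rfl
      rw [h1, List.map_cons, List.sum_cons, ih, List.map_cons, List.sum_cons, LinearMap.add_apply, map_add]
      congr 1
      rw [← (H.walk_spec hz X (d ++ w) (p := (c, m)) hc).2, wd_append, mul_apply']
  rw [key, hws, LinearMap.zero_apply, map_zero]

/-! ### percolation -/

/-- one relation after the other -/
def prc (ws : List (List (Fin 5))) : List ℕ → List (List (Fin 5) × ℕ) → List ℕ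
  | S, [] => S
  | S, t :: l =>
    match row ws t.1 t.2 0 with
    | [] => S
    | q :: qs => if (decide (t.2 < 70) && qs.all fun r => S.contains r.1) = true then prc ws (q.1 :: S) l else prc ws S l

include H in
theorem Cov.prc_spec (hz : σ z = -1) {lam : K} {v : V} (X : Vec σ g lam v) {ws : List (List (Fin 5))}
    (hws : (ws.map fun w => σ (wd g w)).sum = 0) (U : Submodule K V) (l : List (List (Fin 5) × ℕ)) :
    ∀ S : List ℕ, (∀ c ∈ S, uu σ g v c ∈ U) → ∀ c ∈ prc ws S l, uu σ g v c ∈ U := by
  have hlam : lam ≠ 0 := by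
    intro h
    have h1 := X.hl
    rw [h, zero_pow (by norm_num)] at h1
    exact absurd h1 (by rw [eq_comm, neg_eq_zero]; exact one_ne_zero)
  induction l with
  | nil => intro S hS; exact hS
  | cons t l ih =>
    intro S hS
    unfold prc
    rcases hr : row ws t.1 t.2 0 with _ | ⟨q, qs⟩
    · exact hS
    · dsimp only
      split_ifs with h
      · apply ih
        rw [Bool.and_eq_true, decide_eq_true_eq, List.all_eq_true] at h
        obtain ⟨h1, h2⟩ := h
        have h3 := H.row_zero hz X hws t.1 h1 0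
        rw [hr, List.map_cons, List.sum_cons] at h3
        have h4 : (qs.map fun p => lam ^ p.2 • uu σ g v p.1).sum ∈ U := by
          apply list_sum_mem
          intro x hx
          obtain ⟨p, hp, rfl⟩ := List.mem_map.1 hx
          exact U.smul_mem _ (hS _ (by simpa using h2 p hp))
        intro c hc
        rcases List.mem_cons.1 hc with rfl | hc
        · have h5 : lam ^ q.2 • uu σ g v q.1 ∈ U := by
            rw [eq_neg_of_add_eq_zero_left h3]
            exact U.neg_mem h4
          exact (U.smul_mem_iff (pow_ne_zero _ hlam)).1 h5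
        · exact hS c hc
      · exact ih S hS

/-! ### linear combinations -/

/-- the powers of `lam` -/
def pw (s : ℤ) : ℕ → ℤ × ℤ
  | 0 => (1, 0)
  | k + 1 => ((pw s k).2, (pw s k).1 + s * (pw s k).2)

/-- coefficients -/
def co (s : ℤ) : List (ℕ × ℕ) → ℕ → ℤ × ℤ
  | [], _ => (0, 0)
  | p :: L, c => if p.1 = c then ((pw s (p.2 % 8)).1 + (co s L c).1, (pw s (p.2 % 8)).2 + (co s L c).2) else co s L c

/-- evaluation of a coefficient -/
def cv (lam : K) (x : ℤ × ℤ) : K := (x.1 : K) + (x.2 : K) * lam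

omit [IsAlgClosed K] in
theorem pw_spec {lam : K} {s : ℤ} (hs : lam ^ 2 = (s : K) * lam + 1) (k : ℕ) : cv lam (pw s k) = lam ^ k := by
  induction k with
  | zero => simp [pw, cv]
  | succ k ih =>
    have : cv lam (pw s (k + 1)) = cv lam (pw s k) * lam := by
      unfold cv
      rw [pw]
      push_cast
      linear_combination (-((pw s k).2 : K)) * hs
    rw [this, ih, pow_succ]

omit [IsAlgClosed K] [FiniteDimensional K V] in
theorem co_spec {lam : K} (hl : lam ^ 4 = -1) {s : ℤ} (hs : lam ^ 2 = (s : K) * lam + 1) (f : ℕ → V) (L : List (ℕ × ℕ))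
    (hL : ∀ p ∈ L, p.1 < 70) :
    (L.map fun p => lam ^ p.2 • f p.1).sum = ∑ c ∈ Finset.range 70, cv lam (co s L c) • f c := by
  induction L with
  | nil => simp [co, cv]
  | cons p L ih =>
    have h1 : ∀ c, cv lam (co s (p :: L) c) • f c =
        (if p.1 = c then lam ^ p.2 • f p.1 else 0) + cv lam (co s L c) • f c := by
      intro c
      have h0 : co s (p :: L) c = if p.1 = c then ((pw s (p.2 % 8)).1 + (co s L c).1,
        (pw s (p.2 % 8)).2 + (co s L c).2) else co s L c := rfl
      rw [h0]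
      split_ifs with h
      · have h8 : lam ^ p.2 = lam ^ (p.2 % 8) := by
          have h9 : lam ^ 8 = 1 := by
            have : lam ^ 8 = (lam ^ 4) ^ 2 := by ring
            rw [this, hl]
            norm_num
          conv_lhs => rw [← Nat.div_add_mod p.2 8, pow_add, pow_mul, h9, one_pow, one_mul]
        rw [h8, ← pw_spec hs, h, ← add_smul]
        congr 1
        unfold cv
        push_cast
        ring
      · rw [zero_add]
    rw [List.map_cons, List.sum_cons, ih fun q hq => hL q (List.mem_cons_of_mem _ hq)]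
    simp only [h1]
    rw [Finset.sum_add_distrib, Finset.sum_ite_eq, if_pos (Finset.mem_range.2 (hL p List.mem_cons_self))]

/-- the rows of a certificate -/
def crt (ws : List (List (Fin 5))) (C : List (ℕ × List (Fin 5) × ℕ)) : List (ℕ × ℕ) :=
  C.flatMap fun t => row ws t.2.1 t.2.2 t.1

/-- the check of a certificate -/
def chkO (s : ℤ) (L : List (ℕ × ℕ)) (t : ℕ) (al : List ℕ) : Bool :=
  (List.range 70).all fun c =>
    if c = t then ((co s L c).1 - 1) % 3 == 0 && (co s L c).2 % 3 == 0
    else al.contains c || ((co s L c).1 % 3 == 0 && (co s L c).2 % 3 == 0)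

include H in
theorem Cov.crt_spec (hz : σ z = -1) (h3 : (3 : K) = 0) {lam : K} {v : V} (X : Vec σ g lam v) {s : ℤ}
    (hs : lam ^ 2 = (s : K) * lam + 1) {ws : List (List (Fin 5))} (hws : (ws.map fun w => σ (wd g w)).sum = 0)
    {C : List (ℕ × List (Fin 5) × ℕ)} (hC : ∀ t ∈ C, t.2.2 < 70) {t : ℕ} (ht : t < 70) {al : List ℕ}
    (h : chkO s (crt ws C) t al = true) (U : Submodule K V) (hU : ∀ c ∈ al, uu σ g v c ∈ U) : uu σ g v t ∈ U := by
  have h1 : ((crt ws C).map fun p => lam ^ p.2 • uu σ g v p.1).sum = 0 := by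
    clear h
    induction C with
    | nil => simp [crt]
    | cons a C ih =>
      have e1 : crt ws (a :: C) = row ws a.2.1 a.2.2 a.1 ++ crt ws C := List.flatMap_cons ..
      rw [e1, List.map_append, List.sum_append, H.row_zero hz X hws _ (hC a List.mem_cons_self),
        ih fun b hb => hC b (List.mem_cons_of_mem _ hb), add_zero]
  have h2 : ∀ p ∈ crt ws C, p.1 < 70 := by
    intro p hp
    obtain ⟨a, ha, hpa⟩ := List.mem_flatMap.1 hp
    exact H.row_lt hz X _ _ (hC a ha) _ p hpa
  rw [co_spec X.hl hs (uu σ g v) _ h2, ← Finset.add_sum_erase _ _ (Finset.mem_range.2 ht)] at h1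
  have hint : ∀ n : ℤ, (n % 3 == 0) = true → (n : K) = 0 := by
    intro n hn
    have : n % 3 = 0 := by simpa using hn
    obtain ⟨c, rfl⟩ := Int.dvd_of_emod_eq_zero this
    rw [Int.cast_mul, Int.cast_ofNat, h3, zero_mul]
  have h4 : ∑ c ∈ (Finset.range 70).erase t, cv lam (co s (crt ws C) c) • uu σ g v c ∈ U := by
    apply Submodule.sum_mem
    intro c hc
    rw [Finset.mem_erase, Finset.mem_range] at hc
    have h5 := List.all_eq_true.1 h c (List.mem_range.2 hc.2)
    rw [if_neg hc.1, Bool.or_eq_true, Bool.and_eq_true] at h5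
    rcases h5 with h5 | ⟨h5, h6⟩
    · exact U.smul_mem _ (hU c (by simpa using h5))
    · have : cv lam (co s (crt ws C) c) = 0 := by
        unfold cv
        rw [hint _ h5, hint _ h6, zero_mul, add_zero]
      rw [this, zero_smul]
      exact U.zero_mem
  have h5 := List.all_eq_true.1 h t (List.mem_range.2 ht)
  rw [if_pos rfl, Bool.and_eq_true] at h5
  have h6 : cv lam (co s (crt ws C) t) = 1 := by
    unfold cv
    have e1 := hint _ h5.1
    rw [Int.cast_sub, Int.cast_one, sub_eq_zero] at e1
    rw [e1, hint _ h5.2, zero_mul, add_zero]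
  rw [h6, one_smul] at h1
  rw [eq_neg_of_add_eq_zero_left h1]
  exact U.neg_mem h4

/-! ### the checks -/

/-- the powers of the element of order five -/
def PHw : List (List (Fin 5)) := [[], wx, wx ++ wx, wx ++ (wx ++ wx), wx ++ (wx ++ (wx ++ wx))]

/-- the twenty elements of order three of `2.A₅` -/
def O20 : List (List (Fin 5)) :=
  [12, 13, 14, 23, 24, 34, 123, 124, 134, 234].flatMap fun k => [w3 k, w3 k ++ w3 k]

/-- with coefficients one -/
def one' (ws : List (List (Fin 5))) : GR := ws.map fun w => (1, w)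

theorem ev_one' {A : Type*} [Ring A] (g : Fin 5 → D) (σ : D →* A) (ws : List (List (Fin 5))) :
    ev g σ (one' ws) = (ws.map fun w => σ (wd g w)).sum := by
  unfold ev one'
  rw [List.map_map]
  congr 1
  apply List.map_congr_left
  intro w _
  simp

theorem PHw_eq : one' PHw = PH wx := rfl

theorem chk_O20 : chk 0 (GR.sub O5 (one' O20)) = true := by decide +kernel

/-- the ten cosets of `2.A₆` -/
def U6 : List ℕ := [0, 1, 2, 3, 5, 6, 7, 9, 10, 12]

theorem chk_B8 : ((List.range 70).all fun c => (prc PHw B8 st8).contains c) = true := by decide +kernel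

theorem chk_P : chkO 1 (crt O20 certP) 0 [] = true := by decide +kernel

theorem chk_M : chkO (-1) (crt O20 certM) 69 [9, 3, 7] = true := by decide +kernel

theorem chk_U6 : (U6.all fun c => (List.range 4).all fun i => U6.contains (nx (Fin.ofNat 5 i) c)) = true := by
  decide +kernel

theorem chk_W6 : ((List.range 70).all fun c => U6.contains c ||
    ((W6.getD c []).all fun i => decide (i < 4)) && (walk (W6.getD c []) (69, 0)).1 == c) = true := by
  decide +kernel

theorem uu_zero (v : V) : uu σ g v 0 = v := by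
  have : wd g (T 0) = 1 := by simp [wd, T, TC]
  rw [uu, this, act_one]

include H in
/-- the monomial vectors are not contained in a small subspace -/
theorem Cov.no_small (hz : σ z = -1) (hspan : Submodule.span K (Set.range σ) = ⊤) (hn : finrank K V = 12) {lam : K}
    {v : V} (X : Vec σ g lam v) (S : List ℕ) (hS : S.length < 12)
    (h : ∀ c < 70, uu σ g v c ∈ Submodule.span K (Set.range fun j : Fin S.length => uu σ g v (S.get j))) : False := by
  set U : Submodule K V := Submodule.span K (Set.range fun j : Fin S.length => uu σ g v (S.get j)) with hU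
  let W : Submodule K V := Submodule.span K {x | ∃ c < 70, x = uu σ g v c}
  have hgen : ∀ i, ∀ w ∈ W, σ (g i) w ∈ W := by
    intro i w hw
    induction hw using Submodule.span_induction with
    | mem x hx =>
      obtain ⟨c, hc, rfl⟩ := hx
      obtain ⟨h1, h2⟩ := H.step hz X i hc
      rw [h2]
      exact W.smul_mem _ (Submodule.subset_span ⟨_, h1, rfl⟩)
    | zero => rw [map_zero]; exact W.zero_mem
    | add x y _ _ hx hy => rw [map_add]; exact W.add_mem hx hy
    | smul a x _ hx => rw [map_smul]; exact W.smul_mem _ hx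
  have hall : ∀ d, ∀ w ∈ W, σ d w ∈ W := by
    intro d
    have hd : d ∈ closure (Set.range g) := by rw [H.gen]; trivial
    induction hd using closure_induction with
    | mem x hx =>
      obtain ⟨i, rfl⟩ := hx
      exact hgen i
    | one => intro w hw; rwa [act_one]
    | mul x y _ _ hx hy => intro w hw; rw [mul_apply']; exact hx _ (hy _ hw)
    | inv x _ hx => intro w hw; exact inv_inv hx hw
  have h0 : v ∈ W := Submodule.subset_span ⟨0, by norm_num, (uu_zero v).symm⟩
  rcases irr_of_span hspan W hall with h1 | h1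
  · rw [h1, Submodule.mem_bot] at h0
    exact X.h0 h0
  · have h2 : W ≤ U := by
      apply Submodule.span_le.2
      rintro _ ⟨c, hc, rfl⟩
      exact h c hc
    have h3 : U = ⊤ := top_le_iff.1 (h1 ▸ h2)
    have h4 : finrank K U ≤ S.length := by
      have := finrank_range_le_card (R := K) (fun j : Fin S.length => uu σ g v (S.get j))
      rwa [Fintype.card_fin] at this
    rw [h3, finrank_top, hn] at h4
    omega

theorem mem_get (S : List ℕ) {c : ℕ} (hc : c ∈ S) (v : V) :
    uu σ g v c ∈ Submodule.span K (Set.range fun j : Fin S.length => uu σ g v (S.get j)) := by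
  obtain ⟨j, hj⟩ := List.mem_iff_get.1 hc
  exact Submodule.subset_span ⟨j, by rw [← hj]⟩

include H in
/-- elements of order five without fixed vectors -/
theorem Cov.c_zero (hz : σ z = -1) (hspan : Submodule.span K (Set.range σ) = ⊤) (hn : finrank K V = 12) {lam : K}
    {v : V} (X : Vec σ g lam v) (h : ev g σ (PH wx) = 0) : False := by
  rw [← PHw_eq, ev_one'] at h
  refine H.no_small hz hspan hn X B8 (by decide) fun c hc => ?_
  refine H.prc_spec hz X h _ st8 B8 (fun c hc => mem_get B8 hc v) c ?_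
  have := List.all_eq_true.1 chk_B8 c (List.mem_range.2 hc)
  simpa using this

include H in
/-- elements of order five with fixed vectors -/
theorem Cov.c_four (hz : σ z = -1) (h3 : (3 : K) = 0) (hspan : Submodule.span K (Set.range σ) = ⊤)
    (hn : finrank K V = 12) {lam : K} {v : V} (X : Vec σ g lam v) (h : ev g σ O5 = 0) : False := by
  have h20 : (O20.map fun w => σ (wd g w)).sum = 0 := by
    have h1 := H.ev_eq_zero σ hz (m := 0) (by simp) chk_O20
    rw [ev_sub, h, zero_sub, neg_eq_zero, ev_one'] at h1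
    exact h1
  have hl : (lam ^ 2 - (lam + 1)) * (lam ^ 2 - (-lam + 1)) = 0 := by
    linear_combination X.hl - lam ^ 2 * h3
  rcases mul_eq_zero.1 hl with h1 | h1
  · have h2 : lam ^ 2 = ((1 : ℤ) : K) * lam + 1 := by
      rw [sub_eq_zero.1 h1, Int.cast_one, one_mul]
    have h5 := H.crt_spec hz h3 X h2 h20 (C := certP) (by decide) (t := 0) (by norm_num) chk_P ⊥ (by simp)
    rw [uu_zero, Submodule.mem_bot] at h5
    exact X.h0 h5
  · have h2 : lam ^ 2 = ((-1 : ℤ) : K) * lam + 1 := by
      rw [sub_eq_zero.1 h1, Int.cast_neg, Int.cast_one, neg_one_mul]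
    set U : Submodule K V := Submodule.span K (Set.range fun j : Fin U6.length => uu σ g v (U6.get j)) with hU
    have h5 : uu σ g v 69 ∈ U := H.crt_spec hz h3 X h2 h20 (C := certM) (by decide) (t := 69) (by norm_num) chk_M U
      (fun c hc => mem_get U6 (by revert hc; revert c; decide) v)
    have hlam : lam ≠ 0 := by
      intro h
      have h1 := X.hl
      rw [h, zero_pow (by norm_num)] at h1
      exact absurd h1 (by rw [eq_comm, neg_eq_zero]; exact one_ne_zero)
    have hinv : ∀ i : Fin 5, i < 4 → ∀ w ∈ U, σ (g i) w ∈ U := by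
      intro i hi w hw
      induction hw using Submodule.span_induction with
      | mem x hx =>
        obtain ⟨j, rfl⟩ := hx
        have hj : U6.get j ∈ U6 := List.get_mem _ _
        have h70 : U6.get j < 70 := by
          have : ∀ c ∈ U6, c < 70 := by decide
          exact this _ hj
        obtain ⟨e1, e2⟩ := H.step hz X i h70
        show σ (g i) (uu σ g v (U6.get j)) ∈ U
        rw [e2]
        refine U.smul_mem _ (mem_get U6 ?_ v)
        have e3 := List.all_eq_true.1 chk_U6 _ hj
        have e4 := List.all_eq_true.1 e3 i.val (List.mem_range.2 hi)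
        have e5 : Fin.ofNat 5 i.val = i := by
          apply Fin.ext
          simp
        rw [e5] at e4
        simpa using e4
      | zero => rw [map_zero]; exact U.zero_mem
      | add x y _ _ hx hy => rw [map_add]; exact U.add_mem hx hy
      | smul a x _ hx => rw [map_smul]; exact U.smul_mem _ hx
    have hwd : ∀ l : List (Fin 5), (∀ i ∈ l, i < 4) → ∀ w ∈ U, σ (wd g l) w ∈ U := by
      intro l
      induction l with
      | nil =>
        intro _ w hw
        have : wd g [] = 1 := rfl
        rwa [this, act_one]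
      | cons i l ih =>
        intro hl w hw
        have : wd g (i :: l) = g i * wd g l := rfl
        rw [this, mul_apply']
        exact hinv i (hl i List.mem_cons_self) _ (ih (fun j hj => hl j (List.mem_cons_of_mem _ hj)) w hw)
    refine H.no_small hz hspan hn X U6 (by decide) fun c hc => ?_
    have e1 := List.all_eq_true.1 chk_W6 c (List.mem_range.2 hc)
    rw [Bool.or_eq_true, Bool.and_eq_true] at e1
    rcases e1 with e1 | ⟨e1, e2⟩
    · exact mem_get U6 (by simpa using e1) v
    · have e3 : ∀ i ∈ W6.getD c [], i < 4 := by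
        intro i hi
        have := List.all_eq_true.1 e1 i hi
        simpa using this
      have e4 := (H.walk_spec hz X (W6.getD c []) (p := (69, 0)) (by norm_num)).2
      have e5 := hwd _ e3 _ h5
      rw [pow_zero, one_smul, eq_of_beq e2] at e4
      rw [e4] at e5
      exact (U.smul_mem_iff (pow_ne_zero _ hlam)).1 e5

/-- unipotent elements fix vectors in invariant subspaces -/
theorem fix_inf_ne (h3 : (3 : K) = 0) {x : D} (hx : x * x * x = 1) {W : Submodule K V} (hW : W ≠ ⊥)
    (hi : ∀ w ∈ W, σ x w ∈ W) : W ⊓ Fix σ x ≠ ⊥ := by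
  intro hcon
  obtain ⟨w, hw, hw0⟩ := Submodule.exists_mem_ne_zero_of_ne_bot hW
  have key : ∀ u ∈ W, σ x u = u → u = 0 := by
    intro u hu hxu
    have : u ∈ W ⊓ Fix σ x := ⟨hu, mem_Fix.2 hxu⟩
    rw [hcon, Submodule.mem_bot] at this
    exact this
  have hxxx : σ x (σ x (σ x w)) = w := by rw [← mul_apply', ← mul_apply', hx, act_one]
  have h1 := hi w hw
  have h2 := hi _ h1
  -- `w + x w + x² w` is fixed
  have e1 : w + σ x w + σ x (σ x w) = 0 := by
    apply key _ (W.add_mem (W.add_mem hw h1) h2)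
    rw [map_add, map_add, hxxx]
    abel
  have e2 : σ x w - w = 0 := by
    apply key _ (W.sub_mem h1 hw)
    rw [map_sub]
    have h4 : (3 : K) • σ x w = 0 := by rw [h3, zero_smul]
    have h5 : σ x (σ x w) - σ x w - (σ x w - w) = (w + σ x w + σ x (σ x w)) - (3 : K) • σ x w := by module
    rw [e1, h4, sub_zero] at h5
    exact sub_eq_zero.1 h5
  exact hw0 (key w hw (sub_eq_zero.1 e2))

include H in
/-- existence of the vector -/
theorem Cov.exists_vec (hz : σ z = -1) (h3 : (3 : K) = 0) (hn : finrank K V = 12) : ∃ (lam : K) (v : V), Vec σ g lam v := by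
  have hnt : Nontrivial V := Module.nontrivial_of_finrank_pos (R := K) (by omega)
  have ha3 : g 0 * g 0 * g 0 = 1 := by
    have := H.wcube (A := [0]) (by decide +kernel)
    rwa [gens_wd] at this
  have hb3 : wd g (w3 345) * wd g (w3 345) * wd g (w3 345) = 1 := H.wcube (by decide +kernel)
  have hab : wd g (w3 345) * wd g [0] = wd g [0] * wd g (w3 345) := H.rel (by decide +kernel)
  have hha : wd g (w3 345) * wd g hw = wd g hw * wd g [0] := H.rel (by decide +kernel)
  have hhb : wd g [0] * wd g (hw ++ w3 345) = wd g hw := H.rel1 (by decide +kernel)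
  have hh4 : wd g (hw ++ (hw ++ (hw ++ hw))) = z * wd g [] := H.wd_neg (by decide +kernel)
  rw [gens_wd] at hab hha hhb
  have htop : (⊤ : Submodule K V) ≠ ⊥ := top_ne_bot
  have h1 := fix_inf_ne (σ := σ) h3 ha3 htop (fun _ _ => trivial)
  rw [top_inf_eq] at h1
  have h2 := fix_inf_ne (σ := σ) h3 hb3 h1 (fun w hw' => by
    rw [mem_Fix] at hw' ⊢
    rw [← mul_apply', ← hab, mul_apply', hw'])
  set W := Fix σ (g 0) ⊓ Fix σ (wd g (w3 345)) with hWd
  have hWh : ∀ w ∈ W, σ (wd g hw) w ∈ W := by
    rintro w ⟨hwa, hwb⟩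
    rw [SetLike.mem_coe, mem_Fix] at hwa hwb
    constructor
    · rw [SetLike.mem_coe, mem_Fix]
      have h5 : σ (g 0) (σ (wd g hw) (σ (wd g (w3 345)) w)) = σ (wd g hw) w := by
        rw [← mul_apply' (wd g hw), ← wd_append, ← mul_apply', hhb]
      rwa [hwb] at h5
    · rw [SetLike.mem_coe, mem_Fix, ← mul_apply', hha, mul_apply', hwa]
  have hWnt : Nontrivial W := Submodule.nontrivial_iff_ne_bot.2 h2
  obtain ⟨lam, hlam⟩ := Module.End.exists_eigenvalue ((σ (wd g hw)).restrict hWh)
  obtain ⟨w, hw'⟩ := hlam.exists_hasEigenvector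
  have hw1 : σ (wd g hw) (w : V) = lam • (w : V) := by
    have := congrArg (Subtype.val) hw'.apply_eq_smul
    exact this
  have hw0 : (w : V) ≠ 0 := fun h => hw'.2 (Subtype.ext h)
  refine ⟨lam, w, mem_Fix.1 w.2.1, mem_Fix.1 w.2.2, hw1, ?_, hw0⟩
  have h6 := pow_act' hw1 4
  have h7 : wd g hw ^ 4 = z := by
    have : wd g (hw ++ (hw ++ (hw ++ hw))) = wd g hw ^ 4 := by
      rw [wd_append, wd_append, wd_append, pow_succ, pow_succ, pow_succ, _root_.pow_one, mul_assoc, mul_assoc]
    rw [← this, hh4]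
    have : wd g [] = 1 := rfl
    rw [this, mul_one]
  rw [h7, hz] at h6
  have h8 : (lam ^ 4 - (-1)) • (w : V) = 0 := by
    rw [sub_smul, ← h6]
    simp
  exact sub_eq_zero.1 ((smul_eq_zero.1 h8).resolve_right hw0)

include H in
/-- **Characteristic three.** -/
theorem Cov.path_c (hz : σ z = -1) (h3 : (3 : K) = 0) (hspan : Submodule.span K (Set.range σ) = ⊤)
    (hn : finrank K V = 12) : False := by
  have h2 : (2 : K) ≠ 0 := by
    intro h
    apply one_ne_zero (α := K)
    linear_combination h3 - h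
  have h5 : (5 : K) ≠ 0 := by
    intro h
    apply one_ne_zero (α := K)
    linear_combination 2 * h3 - h
  obtain ⟨lam, v, X⟩ := H.exists_vec (σ := σ) hz h3 hn
  have h3' : ((3 : ℕ) : K) = 0 := by exact_mod_cast h3
  have hp : Fact (Nat.Prime 3) := ⟨Nat.prime_three⟩
  have hch : CharP K 3 := ringChar.of_eq (CharP.ringChar_of_prime_eq_zero Nat.prime_three h3')
  have hg3 : g 0 ^ 3 = 1 := by
    have := H.wcube (A := [0]) (by decide +kernel)
    rw [gens_wd] at this
    rw [← this, pow_succ, pow_succ, _root_.pow_one]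
  have f3 := le_of_char (σ := σ) (p := 3) hg3
  rw [hn] at f3
  obtain ⟨m, hm⟩ := H.five_dvd (σ := σ) h5 hn
  have e1 := H.five_three hz h2 (W := (⊤ : Submodule K V)) (fun _ _ _ _ => trivial)
  rw [top_inf_eq, top_inf_eq, top_inf_eq, finrank_top, H.Fix_y, hn] at e1
  have h04 : finrank K (Fix σ (wd g wx)) = 0 ∨ finrank K (Fix σ (wd g wx)) = 4 := by omega
  rcases h04 with h0 | h4
  · exact H.c_zero hz hspan hn X (H.PH_zero (σ := σ) H.wx5 (Submodule.finrank_eq_zero.1 h0))
  · exact H.c_four hz h3 hspan hn X (H.O5_zero hz h2 h5 hn h4 (by omega))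

end Cfsg.Agent.H931.A7D
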