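import Cfsg.Agent.H931.A7D.Data

/-!
# `2.A₇` in degree 12, elements of order five (helper931)
-/

set_option autoImplicit false
set_option linter.unusedSectionVars false
set_option maxRecDepth 100000

namespace Cfsg.Agent.H931.A7D

open Module Subgroup Cfsg.Agent.H637.JW Cfsg.Agent.H882.Dim Cfsg.Agent.H882.Sc Cfsg.Agent.H637.A7Cov

universe u

variable {K : Type*} [Field K] [IsAlgClosed K] {V : Type*} [AddCommGroup V] [Module K V] [FiniteDimensional K V]
  {D : Type u} [Group D] {π : D →* alternatingGroup (Fin 7)} {g : Fin 5 → D} {z : D}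
  {β : D →* Matrix.GeneralLinearGroup (Fin 4) (ZMod 7)} (H : Cov π g z β) {σ : D →* Module.End K V}

/-- the sum over the four-set `0123` -/
def S4 : GR := NS [12, 13, 23, 123]

/-- the sum over the five-set `01234`, minus ten -/
def O5 : GR := NS [12, 13, 14, 23, 24, 34, 123, 124, 134, 234] ++ [(-10, [])]

/-- the certificates -/
def cS : Fin 5 → List (ℤ × List (Fin 5) × List (Fin 5))
  | 0 => []
  | 1 => []
  | 2 => [(-1, [1, 1], [2]), (-1, [], [1, 2]), (-1, [2], [0, 0, 2, 0]), (-1, [], [0, 2]), (-1, [1, 1], []),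
      (1, [2], [2, 2, 1, 1])]
  | 3 => [(-1, [2, 1, 3], [3, 1, 2, 3, 0, 1]), (1, [1, 2, 2, 3], [0, 2, 1, 3, 0, 2]),
      (-1, [0, 2, 3, 3], [2, 0, 3, 1, 2]), (1, [2, 3, 3], [3, 0, 2, 3, 3]), (1, [2, 0, 3], [3, 0, 2, 0, 0]),
      (-1, [2, 2, 3], [0, 2, 3, 0, 2])]
  | 4 => [(-1, [2, 1, 4], [1, 4, 0, 2, 4]), (-1, [2, 1, 4], [1, 4, 0, 2]), (-1, [2, 0, 4], [4, 0, 2, 4, 1, 0]),
      (1, [2, 4, 4], [0, 0, 4, 4, 2]), (-1, [2, 0, 4], [0, 0, 4, 0, 2, 0, 0]), (-1, [2, 4, 4], [0, 1, 0, 4, 2, 2])]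

/-- difference of two elements -/
def GR.sub (A B : GR) : GR := GR.add A (GR.smul (-1) B)

theorem ev_sub {A : Type*} [Ring A] (g : Fin 5 → D) (σ : D →* A) (L M : GR) :
    ev g σ (GR.sub L M) = ev g σ L - ev g σ M := by
  unfold GR.sub
  rw [ev_add, ev_smul, Int.cast_neg, Int.cast_one, neg_one_mul, sub_eq_add_neg]

theorem chk_S4 : ∀ i : Fin 5, chk 0 (GR.sub (GR.sub (GR.mul [(1, [i])] S4) (GR.mul S4 [(1, [i])])) (cert (cS i))) = true := by
  decide +kernel

theorem chk_S4N : chk 0 (GR.sub (GR.mul S4 (NN 12)) (GR.smul 6 (NN 12))) = true := by decide +kernel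

theorem chk_O5 : ∀ i : Fin 5, i < 3 → chk 0 (GR.sub (GR.mul [(1, [i])] O5) (GR.mul O5 [(1, [i])])) = true := by
  decide +kernel

theorem chk_O5x : chk 0 (GR.mul O5 (PH wx)) = true := by decide +kernel

theorem chk_O5y : chk 0 (GR.mul O5 (PH wy5)) = true := by decide +kernel

theorem gens_wd (g : Fin 5 → D) (i : Fin 5) : wd g [i] = g i := by simp [wd]

theorem ev_single {A : Type*} [Ring A] (g : Fin 5 → D) (σ : D →* A) (w : List (Fin 5)) :
    ev g σ [(1, w)] = σ (wd g w) := by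
  simp [ev]

theorem ev_NN {A : Type*} [Ring A] (g : Fin 5 → D) (σ : D →* A) (k : ℕ) :
    ev g σ (NN k) = 1 + σ (wd g (w3 k)) + σ (wd g (w3 k)) * σ (wd g (w3 k)) := by
  simp only [ev, NN, wd_append, List.map_cons, List.map_nil, List.sum_cons, List.sum_nil, map_mul, Int.cast_one, one_mul,
    add_zero]
  rw [show σ (wd g []) = 1 by rw [wd, List.map_nil, List.prod_nil, map_one]]
  abel

theorem ev_append {A : Type*} [Ring A] (g : Fin 5 → D) (σ : D →* A) (L M : GR) :
    ev g σ (L ++ M) = ev g σ L + ev g σ M := ev_add σ L M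

theorem ev_PH {A : Type*} [Ring A] (g : Fin 5 → D) (σ : D →* A) (w : List (Fin 5)) :
    ev g σ (PH w) = 1 + σ (wd g w) + σ (wd g w) ^ 2 + σ (wd g w) ^ 3 + σ (wd g w) ^ 4 := by
  simp only [ev, PH, wd_append, List.map_cons, List.map_nil, List.sum_cons, List.sum_nil, map_mul, Int.cast_one, one_mul,
    add_zero, pow_succ, pow_zero, mul_assoc]
  rw [show σ (wd g []) = 1 by rw [wd, List.map_nil, List.prod_nil, map_one]]
  abel

theorem ev_cert {A : Type*} [Ring A] (g : Fin 5 → D) (σ : D →* A) (h : ev g σ (PH wx) = 0)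
    (l : List (ℤ × List (Fin 5) × List (Fin 5))) : ev g σ (cert l) = 0 := by
  unfold cert
  induction l with
  | nil => simp [ev]
  | cons t l ih => rw [List.flatMap_cons, ev_append, ih, add_zero, ev_mul, ev_mul, h, mul_zero, zero_mul]

/-- irreducibility -/
theorem irr_of_span (hspan : Submodule.span K (Set.range σ) = ⊤) (U : Submodule K V)
    (hU : ∀ d, ∀ u ∈ U, σ d u ∈ U) : U = ⊥ ∨ U = ⊤ := by
  by_cases hb : U = ⊥
  · exact Or.inl hb
  · right
    obtain ⟨v, hv, hv0⟩ := Submodule.exists_mem_ne_zero_of_ne_bot hb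
    rw [eq_top_iff]
    intro w _
    have h1 : ∀ f : Module.End K V, f v ∈ U := by
      intro f
      have hf : f ∈ Submodule.span K (Set.range σ) := by rw [hspan]; trivial
      induction hf using Submodule.span_induction with
      | mem x hx =>
        obtain ⟨d, rfl⟩ := hx
        exact hU d v hv
      | zero => exact U.zero_mem
      | add x y _ _ hx hy => exact U.add_mem hx hy
      | smul c x _ hx => exact U.smul_mem c hx
    obtain ⟨φ, hφ⟩ : ∃ φ : Module.Dual K V, φ v ≠ 0 := by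
      by_contra hcon
      push Not at hcon
      exact hv0 ((Module.forall_dual_apply_eq_zero_iff K v).1 hcon)
    have h3 := h1 (φ.smulRight ((φ v)⁻¹ • w))
    rwa [LinearMap.smulRight_apply, smul_smul, mul_inv_cancel₀ hφ, one_smul] at h3

/-- invariance under `2.A₅` -/
def Inv5 (σ : D →* Module.End K V) (g : Fin 5 → D) (W : Submodule K V) : Prop :=
  ∀ i : Fin 5, i < 3 → ∀ w ∈ W, σ (g i) w ∈ W

theorem Inv5.word {W : Submodule K V} (h : Inv5 σ g W) (l : List (Fin 5)) (hl : ∀ i ∈ l, i < 3) :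
    ∀ w ∈ W, σ (wd g l) w ∈ W := by
  induction l with
  | nil =>
    intro w hw
    have : wd g [] = 1 := rfl
    rwa [this, act_one]
  | cons i l ih =>
    intro w hw
    have : wd g (i :: l) = g i * wd g l := rfl
    rw [this, mul_apply']
    exact h i (hl i List.mem_cons_self) _ (ih (fun j hj => hl j (List.mem_cons_of_mem _ hj)) w hw)

include H

/-- operators commuting with the generators are scalars -/
theorem Cov.scalar_of_comm (hspan : Submodule.span K (Set.range σ) = ⊤) (hn : finrank K V = 12) {X : Module.End K V}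
    (hX : ∀ i, σ (g i) * X = X * σ (g i)) : ∃ μ : K, X = μ • 1 := by
  have hall : ∀ d, σ d * X = X * σ d := by
    intro d
    have hd : d ∈ closure (Set.range g) := by rw [H.gen]; trivial
    induction hd using closure_induction with
    | mem x hx =>
      obtain ⟨i, rfl⟩ := hx
      exact hX i
    | one => rw [map_one, one_mul, mul_one]
    | mul x y _ _ hx hy => rw [map_mul, mul_assoc, hy, ← mul_assoc, hx, mul_assoc]
    | inv x _ hx =>
      have h1 : σ x⁻¹ * σ x = 1 := by rw [← map_mul, inv_mul_cancel, map_one]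
      have h2 : σ x * σ x⁻¹ = 1 := by rw [← map_mul, mul_inv_cancel, map_one]
      calc σ x⁻¹ * X = σ x⁻¹ * X * (σ x * σ x⁻¹) := by rw [h2, mul_one]
        _ = σ x⁻¹ * (X * σ x) * σ x⁻¹ := by noncomm_ring
        _ = (σ x⁻¹ * σ x) * X * σ x⁻¹ := by rw [← hx]; noncomm_ring
        _ = X * σ x⁻¹ := by rw [h1, one_mul]
  have : Nontrivial V := Module.nontrivial_of_finrank_pos (R := K) (by omega)
  obtain ⟨μ, hμ⟩ := Module.End.exists_eigenvalue X
  refine ⟨μ, ?_⟩
  rcases irr_of_span hspan (X.eigenspace μ) (fun d u hu => by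
    rw [Module.End.mem_eigenspace_iff] at hu ⊢
    have := LinearMap.congr_fun (hall d) u
    rw [Module.End.mul_apply, Module.End.mul_apply, hu, map_smul] at this
    exact this.symm) with h1 | h1
  · exact absurd h1 hμ
  · ext v
    have : v ∈ X.eigenspace μ := by rw [h1]; trivial
    rw [Module.End.mem_eigenspace_iff] at this
    rw [this]
    rfl

theorem Cov.S4_comm (hz : σ z = -1) (h5 : ev g σ (PH wx) = 0) (i : Fin 5) :
    σ (g i) * ev g σ S4 = ev g σ S4 * σ (g i) := by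
  have h1 := H.ev_eq_zero σ hz (m := 0) (by simp) (chk_S4 i)
  rw [ev_sub, ev_sub, ev_cert g σ h5, ev_mul, ev_mul, ev_single, gens_wd, sub_zero] at h1
  exact sub_eq_zero.1 h1

theorem Cov.S4_N (hz : σ z = -1) : ev g σ S4 * ev g σ (NN 12) = 6 * ev g σ (NN 12) := by
  have h1 := H.ev_eq_zero σ hz (m := 0) (by simp) chk_S4N
  rw [ev_sub, ev_mul, ev_smul] at h1
  have h2 := sub_eq_zero.1 h1
  rw [h2]
  norm_num

/-- no fixed vectors: the sum of the powers of `x` vanishes -/
theorem Cov.PH_zero {w : List (Fin 5)} (hw : wd g w ^ 5 = 1) (h : Fix σ (wd g w) = ⊥) : ev g σ (PH w) = 0 := by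
  rw [ev_PH]
  have h5 : σ (wd g w) ^ 5 = 1 := by rw [← map_pow, hw, map_one]
  ext v
  have h1 : (1 + σ (wd g w) + σ (wd g w) ^ 2 + σ (wd g w) ^ 3 + σ (wd g w) ^ 4 : Module.End K V) v ∈ Fix σ (wd g w) := by
    rw [mem_Fix, ← Module.End.mul_apply]
    have : σ (wd g w) * (1 + σ (wd g w) + σ (wd g w) ^ 2 + σ (wd g w) ^ 3 + σ (wd g w) ^ 4) =
        (1 + σ (wd g w) + σ (wd g w) ^ 2 + σ (wd g w) ^ 3 + σ (wd g w) ^ 4) + (σ (wd g w) ^ 5 - 1) := by noncomm_ring
    rw [this, h5, sub_self, add_zero]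
  rw [h, Submodule.mem_bot] at h1
  exact h1

theorem Cov.wx5 : wd g wx ^ 5 = 1 := H.pow_one 5 (by decide +kernel)

theorem Cov.wy5' : wd g wy5 ^ 5 = 1 := H.pow_one 5 (by decide +kernel)

theorem Cov.Fix_y : finrank K (Fix σ (wd g wy5)) = finrank K (Fix σ (wd g wx)) := by
  have h1 : wd g [2] * wd g (wx ++ wx) = wd g wy5 * wd g [2] := H.rel (by decide +kernel)
  have h2 := fix_conj (σ := σ) h1
  rw [h2]
  have h3 : Fix σ (wd g (wx ++ wx)) = Fix σ (wd g wx) := by
    ext v
    rw [mem_Fix, mem_Fix, wd_append, mul_apply']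
    constructor
    · intro h
      have h4 : wd g wx ^ 6 = wd g wx := by
        rw [show 6 = 5 + 1 from rfl, pow_succ, H.wx5, one_mul]
      have h5 : σ (wd g wx ^ 2) v = v := by rw [pow_two, mul_apply', h]
      have h6 := fix_pow h5 3
      rw [← pow_mul] at h6
      rwa [h4] at h6
    · intro h
      rw [h, h]
  rw [h3]

/-- **The dimension of the fixed space of an element of order five.** -/
theorem Cov.five_dvd (h5 : (5 : K) ≠ 0) (hn : finrank K V = 12) :
    ∃ m, 12 = finrank K (Fix σ (wd g wx)) + 4 * m := by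
  have h1 : wd g [3, 0, 4, 2, 3] * wd g wx * (wd g [3, 0, 4, 2, 3])⁻¹ = wd g wx ^ 2 := by
    have h2 : wd g [3, 0, 4, 2, 3] * wd g wx = wd g (wx ++ wx) * wd g [3, 0, 4, 2, 3] := H.rel (by decide +kernel)
    rw [h2, mul_inv_cancel_right, wd_append, pow_two]
  rw [← hn]
  exact eig_five h5 H.wx5 h1

/-- **`2 f₅ + f₃ ≤ dim`** for invariant subspaces -/
theorem Cov.five_three (hz : σ z = -1) (h2 : (2 : K) ≠ 0) {W : Submodule K V} (hW : Inv5 σ g W) :
    finrank K (W ⊓ Fix σ (wd g wx) : Submodule K V) + finrank K (W ⊓ Fix σ (wd g wy5) : Submodule K V) +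
      finrank K (W ⊓ Fix σ (g 0) : Submodule K V) ≤ finrank K W := by
  have hzm : z ∈ closure ({wd g wx, wd g wy5} : Set D) :=
    H.z_mem (A := wx) (B := wy5) [false, false, true, true, false, false, true, true] (by decide +kernel)
  have h1 := scott_sub (σ := σ) hz h2 hzm W (hW.word wx (by decide)) (hW.word wy5 (by decide))
  have h3 : finrank K (W ⊓ Fix σ (g 0) : Submodule K V) ≤
      finrank K (W ⊓ Fix σ (wd g wx * wd g wy5) : Submodule K V) := by
    refine fix_conj_sub (c := wd g [0, 1]) ?_ W (hW.word _ (by decide))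
    have h4 : wd g [0, 1] * wd g [0] = wd g (wx ++ wy5) * wd g [0, 1] := H.rel (by decide +kernel)
    rwa [gens_wd, wd_append] at h4
  omega

/-- `2 f₃ ≤ dim` -/
theorem Cov.three_three (hz : σ z = -1) (h2 : (2 : K) ≠ 0) {W : Submodule K V} (hW : Inv5 σ g W) :
    2 * finrank K (W ⊓ Fix σ (g 0) : Submodule K V) ≤ finrank K W := by
  have h01 : z ∈ closure ({g 0, g 1} : Set D) := by
    have := H.z_mem (A := [0]) (B := [1]) [false, true, false, true] (by decide +kernel)
    rwa [gens_wd, gens_wd] at this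
  have h1 := two_fix (σ := σ) hz h2 h01 W
  have h3 : finrank K (W ⊓ Fix σ (g 0) : Submodule K V) ≤ finrank K (W ⊓ Fix σ (g 1) : Submodule K V) := by
    refine fix_conj_sub (c := wd g [0, 2, 2, 1]) ?_ W (hW.word _ (by decide))
    have h4 : wd g [0, 2, 2, 1] * wd g [0] = wd g [1] * wd g [0, 2, 2, 1] := H.rel (by decide +kernel)
    rwa [gens_wd, gens_wd] at h4
  omega

theorem Cov.O5_comm (hz : σ z = -1) (i : Fin 5) (hi : i < 3) : σ (g i) * ev g σ O5 = ev g σ O5 * σ (g i) := by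
  have h1 := H.ev_eq_zero σ hz (m := 0) (by simp) (chk_O5 i hi)
  rw [ev_sub, ev_mul, ev_mul, ev_single, gens_wd] at h1
  exact sub_eq_zero.1 h1

theorem Cov.O5_fix (hz : σ z = -1) (h5 : (5 : K) ≠ 0) {w : List (Fin 5)} (hw : chk 0 (GR.mul O5 (PH w)) = true) {v : V}
    (hv : v ∈ Fix σ (wd g w)) : ev g σ O5 v = 0 := by
  have h1 := H.ev_eq_zero σ hz (m := 0) (by simp) hw
  rw [ev_mul, ev_PH] at h1
  have h2 := LinearMap.congr_fun h1 v
  rw [Module.End.mul_apply] at h2
  have h3 : ∀ n, (σ (wd g w) ^ n) v = v := by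
    intro n
    rw [← map_pow]
    exact fix_pow (mem_Fix.1 hv) n
  have h4 : (1 + σ (wd g w) + σ (wd g w) ^ 2 + σ (wd g w) ^ 3 + σ (wd g w) ^ 4 : Module.End K V) v = (5 : K) • v := by
    simp only [LinearMap.add_apply, h3, Module.End.one_apply, mem_Fix.1 hv]
    module
  rw [h4, map_smul] at h2
  exact (smul_eq_zero.1 h2).resolve_left h5

/-- `f₅ = 4` and `4 ≤ f₃` : the operator `O5` vanishes -/
theorem Cov.O5_zero (hz : σ z = -1) (h2 : (2 : K) ≠ 0) (h5 : (5 : K) ≠ 0) (hn : finrank K V = 12)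
    (hf : finrank K (Fix σ (wd g wx)) = 4) (h3 : 4 ≤ finrank K (Fix σ (g 0))) : ev g σ O5 = 0 := by
  set Ω := ev g σ O5 with hΩ
  let W : Submodule K V := LinearMap.ker Ω
  let M : Submodule K V := LinearMap.range Ω
  have hcomm : ∀ i : Fin 5, i < 3 → ∀ v, Ω (σ (g i) v) = σ (g i) (Ω v) := fun i hi v =>
    (LinearMap.congr_fun (H.O5_comm hz i hi) v).symm
  have hW : Inv5 σ g W := by
    intro i hi w hw
    have hw' : Ω w = 0 := hw
    show Ω (σ (g i) w) = 0
    rw [hcomm i hi, hw', map_zero]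
  have hM : Inv5 σ g M := by
    rintro i hi _ ⟨v, rfl⟩
    exact ⟨σ (g i) v, hcomm i hi v⟩
  have hx : W ⊓ Fix σ (wd g wx) = Fix σ (wd g wx) :=
    inf_eq_right.2 fun v hv => H.O5_fix hz h5 chk_O5x hv
  have hy : W ⊓ Fix σ (wd g wy5) = Fix σ (wd g wy5) :=
    inf_eq_right.2 fun v hv => H.O5_fix hz h5 chk_O5y hv
  have e1 := H.five_three hz h2 hW
  rw [hx, hy, H.Fix_y, hf] at e1
  have e2 := H.three_three hz h2 hM
  -- rank and nullity on the fixed space
  have e3 : finrank K (Fix σ (g 0)) ≤ finrank K (W ⊓ Fix σ (g 0) : Submodule K V) +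
      finrank K (M ⊓ Fix σ (g 0) : Submodule K V) := by
    have h6 := LinearMap.finrank_range_add_finrank_ker (Ω.comp (Fix σ (g 0)).subtype)
    have h7 : LinearMap.range (Ω.comp (Fix σ (g 0)).subtype) ≤ M ⊓ Fix σ (g 0) := by
      rintro _ ⟨⟨v, hv⟩, rfl⟩
      refine ⟨⟨v, rfl⟩, mem_Fix.2 ?_⟩
      show σ (g 0) (Ω v) = Ω v
      rw [← hcomm 0 (by decide), mem_Fix.1 hv]
    have h8 : finrank K (LinearMap.ker (Ω.comp (Fix σ (g 0)).subtype)) ≤
        finrank K (W ⊓ Fix σ (g 0) : Submodule K V) := by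
      have h9 : (LinearMap.ker (Ω.comp (Fix σ (g 0)).subtype)).map (Fix σ (g 0)).subtype ≤ W ⊓ Fix σ (g 0) := by
        rintro _ ⟨v, hv, rfl⟩
        exact ⟨hv, v.2⟩
      have h10 := Submodule.finrank_mono h9
      rwa [Submodule.finrank_map_subtype_eq] at h10
    have h11 := Submodule.finrank_mono h7
    omega
  have e4 := LinearMap.finrank_range_add_finrank_ker Ω
  rw [hn] at e4
  have e5 : finrank K M + finrank K W = 12 := e4
  have hM0 : finrank K M = 0 := by omega
  have : M = ⊥ := Submodule.finrank_eq_zero.1 hM0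
  exact LinearMap.range_eq_bot.1 this

/-! ### `p ≠ 2, 3, 5` -/

/-- the sum over a set of triples minus ten -/
def OR (l : List ℕ) : GR := NS l ++ [(-10, [])]

/-- the six five-sets, with conjugating words -/
def RR : Fin 6 → List ℕ × List (Fin 5)
  | 0 => ([123, 124, 125, 134, 135, 145, 234, 235, 245, 345], [3])
  | 1 => ([23, 24, 25, 34, 35, 45, 234, 235, 245, 345], [0, 3])
  | 2 => ([13, 14, 15, 34, 35, 45, 134, 135, 145, 345], [0, 0, 3])
  | 3 => ([12, 14, 15, 24, 25, 45, 124, 125, 145, 245], [1, 0, 3])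
  | 4 => ([12, 13, 15, 23, 25, 35, 123, 125, 135, 235], [2, 0, 3])
  | 5 => ([12, 13, 14, 23, 24, 34, 123, 124, 134, 234], [])

omit H in
theorem chk_RR : ∀ i : Fin 6, chk 0 (GR.sub (GR.mul (OR (RR i).1) [(1, (RR i).2)]) (GR.mul [(1, (RR i).2)] O5)) = true := by
  decide +kernel

/-- the three four-sets `0123`, `0124`, `0125` -/
def QQ : GR := NS [12, 13, 23, 123, 12, 14, 24, 124, 12, 15, 25, 125]

omit H in
theorem chk_QQ : chk 0 (GR.sub (GR.sub (GR.smul 3 (GR.sub (GR.sub (GR.sub QQ (NN 12)) (NN 345)) [(10, [])]))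
    (GR.smul 3 (OR (RR 5).1 ++ (OR (RR 4).1 ++ OR (RR 3).1))))
    (GR.smul (-1) (OR (RR 0).1 ++ (OR (RR 1).1 ++ (OR (RR 2).1 ++ (OR (RR 3).1 ++ (OR (RR 4).1 ++ OR (RR 5).1))))))) = true := by
  decide +kernel

omit H in
theorem chk_QN : chk 0 (GR.sub (GR.mul QQ (NN 12)) (GR.smul 18 (NN 12))) = true := by decide +kernel

omit H in
theorem chk_N2 : chk 0 (GR.sub (GR.mul (NN 12) (NN 12)) (GR.smul 3 (NN 12))) = true := by decide +kernel

omit H in
theorem chk_N2' : chk 0 (GR.sub (GR.mul (NN 345) (NN 345)) (GR.smul 3 (NN 345))) = true := by decide +kernel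

theorem Cov.OR_zero (hz : σ z = -1) (h0 : ev g σ O5 = 0) (i : Fin 6) : ev g σ (OR (RR i).1) = 0 := by
  have h1 := H.ev_eq_zero σ hz (m := 0) (by simp) (chk_RR i)
  rw [ev_sub, ev_mul, ev_mul, h0, mul_zero, sub_zero, ev_single] at h1
  have h2 : σ (wd g (RR i).2) * σ (wd g (RR i).2)⁻¹ = 1 := by rw [← map_mul, mul_inv_cancel, map_one]
  calc ev g σ (OR (RR i).1) = ev g σ (OR (RR i).1) * (σ (wd g (RR i).2) * σ (wd g (RR i).2)⁻¹) := by rw [h2, mul_one]
    _ = 0 := by rw [← mul_assoc, h1, zero_mul]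

theorem Cov.N_fix {v : V} (hv : v ∈ Fix σ (g 0)) : ev g σ (NN 12) v = (3 : K) • v := by
  rw [ev_NN]
  have h1 : wd g (w3 12) = g 0 := gens_wd g 0
  rw [h1]
  simp only [LinearMap.add_apply, Module.End.one_apply, Module.End.mul_apply, mem_Fix.1 hv]
  module

theorem Cov.O5_ne (hz : σ z = -1) (h2 : (2 : K) ≠ 0) (h3 : (3 : K) ≠ 0) (h5 : (5 : K) ≠ 0)
    (hpos : 0 < finrank K (Fix σ (g 0))) (h0 : ev g σ O5 = 0) : False := by
  have hO := H.OR_zero hz h0
  set n := ev g σ (NN 12) with hnd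
  set m := ev g σ (NN 345) with hm
  set q := ev g σ QQ with hq
  have e1 := H.ev_eq_zero σ hz (m := 0) (by simp) chk_QQ
  rw [ev_sub, ev_sub, ev_smul, ev_smul, ev_smul, ev_append, ev_append, ev_append, ev_append, ev_append, ev_append,
    ev_append, hO 0, hO 1, hO 2, hO 3, hO 4, hO 5, ev_sub, ev_sub, ev_sub, ← hnd, ← hm, ← hq] at e1
  have e10 : ev g σ [(10, [])] = 10 := by
    simp [ev, wd]
  rw [e10] at e1
  have e1' : (3 : K) • (q - n - m - 10) = 0 := by
    have : ((3 : ℤ) : Module.End K V) * (q - n - m - 10) = 0 := by simpa using e1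
    have h4 : (3 : K) • (q - n - m - 10) = ((3 : ℤ) : Module.End K V) * (q - n - m - 10) := by
      rw [Int.cast_ofNat, Algebra.smul_def, map_ofNat]
    rw [h4, this]
  have e2 : q - n - m - 10 = 0 := (smul_eq_zero.1 e1').resolve_left h3
  have e3 := H.ev_eq_zero σ hz (m := 0) (by simp) chk_QN
  rw [ev_sub, ev_mul, ev_smul, ← hnd, ← hq] at e3
  have e4 := H.ev_eq_zero σ hz (m := 0) (by simp) chk_N2
  rw [ev_sub, ev_mul, ev_smul, ← hnd] at e4
  have e5 := H.ev_eq_zero σ hz (m := 0) (by simp) chk_N2'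
  rw [ev_sub, ev_mul, ev_smul, ← hm] at e5
  -- `m n = 5 n`
  have e6 : m * n = 5 * n := by
    have h4 : (q - n - m - 10) * n = 0 := by rw [e2, zero_mul]
    have h6 : q * n = 18 * n := by simpa using sub_eq_zero.1 e3
    have h7 : n * n = 3 * n := by simpa using sub_eq_zero.1 e4
    rw [sub_mul, sub_mul, sub_mul, h6, h7] at h4
    linear_combination (norm := noncomm_ring) -h4
  have e7 : (10 : Module.End K V) * n = 0 := by
    have h7 : m * m = 3 * m := by simpa using sub_eq_zero.1 e5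
    have h8 : m * m * n = 25 * n := by
      rw [mul_assoc, e6]
      have : m * (5 * n) = 5 * (m * n) := by noncomm_ring
      rw [this, e6]
      noncomm_ring
    have h9 : m * m * n = 15 * n := by
      rw [h7, mul_assoc, e6]
      noncomm_ring
    linear_combination (norm := noncomm_ring) h9 - h8
  obtain ⟨v, hv, hv0⟩ := exists_fix_of_pos hpos
  have h10 := LinearMap.congr_fun e7 v
  rw [Module.End.mul_apply, hnd, H.N_fix hv, map_smul] at h10
  have h11 : (10 : Module.End K V) v = (10 : K) • v := by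
    have : (10 : Module.End K V) = algebraMap K (Module.End K V) 10 := by rw [map_ofNat]
    rw [this, Module.algebraMap_end_apply]
  rw [h11, smul_smul] at h10
  have h12 : (3 : K) * 10 ≠ 0 := by
    refine mul_ne_zero h3 ?_
    rw [show (10 : K) = 2 * 5 by norm_num]
    exact mul_ne_zero h2 h5
  exact hv0 ((smul_eq_zero.1 h10).resolve_left h12)

omit H in
/-- the operator `1 + x + x²` is three times the projection onto the fixed space -/
theorem trace_N (h3 : (3 : K) ≠ 0) {x : D} (hx : x * x * x = 1) :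
    LinearMap.trace K V (1 + σ x + σ x * σ x) = 3 * (finrank K (Fix σ x) : K) := by
  have hxxx : ∀ v, σ x (σ x (σ x v)) = v := fun v => by rw [← mul_apply', ← mul_apply', hx, act_one]
  set p : Module.End K V := (3 : K)⁻¹ • (1 + σ x + σ x * σ x) with hp
  have hpv : ∀ v, p v = (3 : K)⁻¹ • (v + σ x v + σ x (σ x v)) := fun v => rfl
  have hproj : LinearMap.IsProj (Fix σ x) p := by
    refine ⟨fun v => ?_, fun v hv => ?_⟩
    · rw [mem_Fix, hpv, map_smul, map_add, map_add, hxxx]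
      congr 1
      abel
    · rw [hpv, mem_Fix.1 hv, mem_Fix.1 hv]
      have : v + v + v = (3 : K) • v := by module
      rw [this, smul_smul, inv_mul_cancel₀ h3, one_smul]
  have h1 := hproj.trace
  have h2 : (1 + σ x + σ x * σ x : Module.End K V) = (3 : K) • p := by
    rw [hp, smul_smul, mul_inv_cancel₀ h3, one_smul]
  rw [h2, map_smul, h1, smul_eq_mul]

theorem Cov.f3_conj {A B : List (Fin 5)} (h : codeW (A ++ [0]) = codeW (B ++ A)) :
    finrank K (Fix σ (wd g B)) = finrank K (Fix σ (g 0)) := by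
  have h1 : wd g A * wd g [0] = wd g B * wd g A := H.rel h
  rw [gens_wd] at h1
  exact fix_conj h1

/-- **`p ≠ 2, 3, 5`.** -/
theorem Cov.path_b (hz : σ z = -1) (h2 : (2 : K) ≠ 0) (h3 : (3 : K) ≠ 0) (h5 : (5 : K) ≠ 0)
    (hspan : Submodule.span K (Set.range σ) = ⊤) (hn : finrank K V = 12) : False := by
  obtain ⟨fa, -, -⟩ := H.three hz h2 h3 hspan hn
  have hpos := H.fix_ne hz hspan hn
  obtain ⟨m, hm⟩ := H.five_dvd (σ := σ) h5 hn
  have e1 := H.five_three hz h2 (W := (⊤ : Submodule K V)) (fun _ _ _ _ => trivial)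
  rw [top_inf_eq, top_inf_eq, top_inf_eq, finrank_top, H.Fix_y, fa, hn] at e1
  have h04 : finrank K (Fix σ (wd g wx)) = 0 ∨ finrank K (Fix σ (wd g wx)) = 4 := by omega
  rcases h04 with h0 | h4
  · have hPH := H.PH_zero (σ := σ) H.wx5 (Submodule.finrank_eq_zero.1 h0)
    obtain ⟨μ, hμ⟩ := H.scalar_of_comm hspan hn (H.S4_comm hz hPH)
    -- the scalar is six
    have hSN := H.S4_N (σ := σ) hz
    obtain ⟨v, hv, hv0⟩ := exists_fix_of_pos hpos
    have h6 := LinearMap.congr_fun hSN v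
    rw [Module.End.mul_apply, Module.End.mul_apply, H.N_fix hv, hμ, LinearMap.smul_apply, Module.End.one_apply] at h6
    have h7 : (6 : Module.End K V) ((3 : K) • v) = (6 : K) • (3 : K) • v := by
      have : (6 : Module.End K V) = algebraMap K (Module.End K V) 6 := by rw [map_ofNat]
      rw [this, Module.algebraMap_end_apply]
    rw [h7, ← sub_eq_zero, ← sub_smul, smul_smul] at h6
    have h8 : μ = 6 := by
      have h9 := (smul_eq_zero.1 h6).resolve_right hv0
      exact sub_eq_zero.1 ((mul_eq_zero.1 h9).resolve_right h3)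
    -- the trace
    have ht := congrArg (LinearMap.trace K V) hμ
    have hS : ev g σ S4 = ev g σ (NN 12) + (ev g σ (NN 13) + (ev g σ (NN 23) + ev g σ (NN 123))) := by
      have : S4 = NN 12 ++ (NN 13 ++ (NN 23 ++ NN 123)) := by
        simp [S4, NS]
      rw [this, ev_append, ev_append, ev_append]
    rw [hS, map_add, map_add, map_add, ev_NN, ev_NN, ev_NN, ev_NN,
      trace_N h3 (x := wd g (w3 12)) (H.wcube (by decide +kernel)),
      trace_N h3 (x := wd g (w3 13)) (H.wcube (by decide +kernel)),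
      trace_N h3 (x := wd g (w3 23)) (H.wcube (by decide +kernel)),
      trace_N h3 (x := wd g (w3 123)) (H.wcube (by decide +kernel)),
      H.f3_conj (A := []) (B := w3 12) (by decide +kernel), H.f3_conj (A := [0, 2, 2, 1]) (B := w3 13) (by decide +kernel),
      H.f3_conj (A := [0, 1]) (B := w3 23) (by decide +kernel), H.f3_conj (A := [2, 0, 1]) (B := w3 123) (by decide +kernel),
      fa, h8, map_smul, LinearMap.trace_one, hn, smul_eq_mul] at ht
    push_cast at ht
    have h24 : (24 : K) = 0 := by linear_combination -ht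
    have : (24 : K) = 2 * 2 * 2 * 3 := by norm_num
    rw [this] at h24
    exact mul_ne_zero (mul_ne_zero (mul_ne_zero h2 h2) h2) h3 h24
  · exact H.O5_ne hz h2 h3 h5 hpos (H.O5_zero hz h2 h5 hn h4 (by omega))

end Cfsg.Agent.H931.A7D
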