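import Cfsg.Agent.H931.A7D.Code
import Cfsg.Agent.H637.A7Main

/-!
# Verification of identities in the group ring of `2.A₇` (helper931)

`Cov π g z` : `D` is a double cover of `A₇` with the Carmichael generators `g`.  `GR` : formal integral combinations of
words in the generators; `chk m L = true` and `m = 0` in `K` imply that `L` evaluates to zero in every representation with
`z ↦ -1`.
-/

set_option autoImplicit false

namespace Cfsg.Agent.H931.A7D

open Matrix Subgroup Cfsg.Agent.H637.A7Cov Cfsg.Agent.H637.A7Grp Cfsg.Agent.H637.A7Main Cfsg.Agent.H637.A7Ev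
  Cfsg.Agent.H637.A7Mat

/-- the code of a generator -/
def genC : Fin 5 → ℕ := ![26403313226672, 211662460158336, 169364589975705, 63232716477300, 157242081755827]

/-- the code of a word -/
def codeW (w : List (Fin 5)) : ℕ := w.foldr (fun i c => mulC (genC i) c) (pack [1, 0, 0, 0, 0, 1, 0, 0, 0, 0, 1, 0, 0, 0, 0, 1])

theorem hb3 : (3 : ZMod 7) * 3 + 3 + 2 = 0 := by decide

instance fact7 : Fact (Nat.Prime 7) := ⟨by norm_num⟩

theorem toM_gen (i : Fin 5) : toM (genC i) = S (3 : ZMod 7) i := by
  revert i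
  decide +kernel

theorem toM_one : toM (pack [1, 0, 0, 0, 0, 1, 0, 0, 0, 0, 1, 0, 0, 0, 0, 1]) = 1 := by
  decide +kernel

/-- formal combinations -/
abbrev GR := List (ℤ × List (Fin 5))

/-- insertion -/
def ins (k : ℕ) (c : ℤ) : List (ℕ × ℤ) → List (ℕ × ℤ)
  | [] => [(k, c)]
  | p :: l => if k = p.1 then (p.1, c + p.2) :: l else p :: ins k c l

/-- collecting the coefficients -/
def coll : GR → List (ℕ × ℤ)
  | [] => []
  | t :: l =>
    if negC (codeW t.2) < codeW t.2 then ins (negC (codeW t.2)) (-t.1) (coll l) else ins (codeW t.2) t.1 (coll l)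

theorem coll_cons (t : ℤ × List (Fin 5)) (l : GR) : coll (t :: l) =
    if negC (codeW t.2) < codeW t.2 then ins (negC (codeW t.2)) (-t.1) (coll l) else ins (codeW t.2) t.1 (coll l) := rfl

/-- the check -/
def chk (m : ℤ) (L : GR) : Bool := (coll L).all fun p => p.2 % m == 0

/-- product -/
def GR.mul (A B : GR) : GR := A.flatMap fun a => B.map fun b => (a.1 * b.1, a.2 ++ b.2)

/-- multiples -/
def GR.smul (c : ℤ) (A : GR) : GR := A.map fun a => (c * a.1, a.2)

/-- sum -/
def GR.add (A B : GR) : GR := A ++ B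

/-- word -/
def GR.wd (w : List (Fin 5)) : GR := [(1, w)]

section cov

universe u v

/-- the double cover of `A₇` -/
structure Cov {D : Type u} [Group D] (π : D →* alternatingGroup (Fin 7)) (g : Fin 5 → D) (z : D)
    (β : D →* GL (Fin 4) (ZMod 7)) : Prop extends Good π g z where
  bg : ∀ i, (β (g i) : Matrix (Fin 4) (Fin 4) (ZMod 7)) = S 3 i
  bz : β z = -1

variable {D : Type u} [Group D] {π : D →* alternatingGroup (Fin 7)} {g : Fin 5 → D} {z : D}
  {β : D →* GL (Fin 4) (ZMod 7)} (H : Cov π g z β)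

include H

theorem Cov.inj {d : D} (hd : β d = 1) : d = 1 := by
  have h1 : (β.ker.map π).Normal := Subgroup.Normal.map inferInstance π H.surj
  have hA : IsSimpleGroup (alternatingGroup (Fin 7)) := alternatingGroup.isSimpleGroup (by simp)
  have hz : (-1 : GL (Fin 4) (ZMod 7)) ≠ 1 := by
    intro h0
    have h2 := congrArg (fun u : GL (Fin 4) (ZMod 7) => (u : Matrix (Fin 4) (Fin 4) (ZMod 7)) 0 0) h0
    revert h2
    decide
  rcases h1.eq_bot_or_eq_top with h2 | h2
  · have h3 : π d ∈ β.ker.map π := ⟨d, hd, rfl⟩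
    rw [h2, Subgroup.mem_bot] at h3
    rcases H.ker d h3 with h4 | h4
    · exact h4
    · exfalso
      rw [h4, H.bz] at hd
      exact hz hd
  · exfalso
    have h3 : π (g 0) ∈ β.ker.map π := by rw [h2]; trivial
    obtain ⟨c, hc, hcg⟩ := h3
    have hc1 : β c = 1 := hc
    have h5 : ∀ s : ZMod 7, S (3 : ZMod 7) 0 ≠ s • (1 : Matrix (Fin 4) (Fin 4) (ZMod 7)) := by
      decide +kernel
    rcases H.eq_or hcg with h4 | h4
    · rw [h4] at hc1
      have h6 := congrArg (fun u : GL (Fin 4) (ZMod 7) => (u : Matrix (Fin 4) (Fin 4) (ZMod 7))) hc1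
      simp only [H.bg, Units.val_one] at h6
      exact h5 1 (by rw [h6, one_smul])
    · rw [h4, map_mul, H.bz] at hc1
      have h6 := congrArg (fun u : GL (Fin 4) (ZMod 7) => (u : Matrix (Fin 4) (Fin 4) (ZMod 7))) hc1
      simp only [Units.val_mul, H.bg, Units.val_one, Units.val_neg, neg_mul, one_mul] at h6
      exact h5 (-1) (by rw [neg_smul, one_smul, ← h6, neg_neg])

theorem Cov.inj' {d d' : D} (h : β d = β d') : d = d' := by
  have h1 : d * d'⁻¹ = 1 := H.inj (by rw [map_mul, map_inv, h, mul_inv_cancel])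
  exact mul_inv_eq_one.1 h1

omit H in
/-- the element given by a word -/
def wd (g : Fin 5 → D) (w : List (Fin 5)) : D := (w.map g).prod

omit H in
theorem wd_append (w w' : List (Fin 5)) : wd g (w ++ w') = wd g w * wd g w' := by
  unfold wd
  rw [List.map_append, List.prod_append]

theorem Cov.toM_codeW (w : List (Fin 5)) : toM (codeW w) = (β (wd g w) : Matrix (Fin 4) (Fin 4) (ZMod 7)) := by
  induction w with
  | nil =>
    show toM _ = ((β 1 : GL (Fin 4) (ZMod 7)) : Matrix (Fin 4) (Fin 4) (ZMod 7))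
    rw [map_one, Units.val_one]
    exact toM_one
  | cons i w ih =>
    have h1 : codeW (i :: w) = mulC (genC i) (codeW w) := rfl
    have h2 : wd g (i :: w) = g i * wd g w := rfl
    rw [h1, h2, toM_mulC, ih, toM_gen, map_mul, Units.val_mul, H.bg]

/-- **Equality of words.** -/
theorem Cov.wd_eq {w w' : List (Fin 5)} (h : codeW w = codeW w') : wd g w = wd g w' := by
  apply H.inj'
  apply Units.ext
  rw [← H.toM_codeW, ← H.toM_codeW, h]

theorem Cov.wd_neg {w w' : List (Fin 5)} (h : codeW w = negC (codeW w')) : wd g w = z * wd g w' := by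
  apply H.inj'
  apply Units.ext
  rw [← H.toM_codeW, h, toM_negC, H.toM_codeW, map_mul, H.bz, Units.val_mul, Units.val_neg, Units.val_one, neg_mul,
    one_mul]

variable {A : Type v} [Ring A] (σ : D →* A)

omit H in
/-- evaluation -/
def ev (g : Fin 5 → D) (σ : D →* A) (L : GR) : A := (L.map fun t => (t.1 : A) * σ (wd g t.2)).sum

omit H in
open Classical in
/-- the value of a code -/
noncomputable def val (β : D →* GL (Fin 4) (ZMod 7)) (σ : D →* A) (k : ℕ) : A :=
  if h : ∃ d, (β d : Matrix (Fin 4) (Fin 4) (ZMod 7)) = toM k then σ h.choose else 0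

theorem Cov.val_eq {k : ℕ} {d : D} (h : (β d : Matrix (Fin 4) (Fin 4) (ZMod 7)) = toM k) : val β σ k = σ d := by
  have hex : ∃ d, (β d : Matrix (Fin 4) (Fin 4) (ZMod 7)) = toM k := ⟨d, h⟩
  unfold val
  rw [dif_pos hex]
  congr 1
  apply H.inj'
  apply Units.ext
  rw [hex.choose_spec, h]

theorem Cov.val_neg (hz : σ z = -1) (k : ℕ) : val β σ (negC k) = - val β σ k := by
  by_cases hex : ∃ d, (β d : Matrix (Fin 4) (Fin 4) (ZMod 7)) = toM k
  · obtain ⟨d, hd⟩ := hex
    rw [H.val_eq σ hd, H.val_eq σ (k := negC k) (d := z * d) (by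
      rw [map_mul, H.bz, Units.val_mul, Units.val_neg, Units.val_one, neg_mul, one_mul, hd, toM_negC])]
    rw [map_mul, hz, neg_one_mul]
  · have hex' : ¬ ∃ d, (β d : Matrix (Fin 4) (Fin 4) (ZMod 7)) = toM (negC k) := by
      rintro ⟨d, hd⟩
      apply hex
      refine ⟨z * d, ?_⟩
      rw [map_mul, H.bz, Units.val_mul, Units.val_neg, Units.val_one, neg_mul, one_mul, hd, toM_negC, neg_neg]
    unfold val
    rw [dif_neg hex, dif_neg hex', neg_zero]

theorem Cov.val_codeW (w : List (Fin 5)) : val β σ (codeW w) = σ (wd g w) :=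
  H.val_eq σ (H.toM_codeW w).symm

omit H in
theorem sum_ins (f : ℕ → A) (k : ℕ) (c : ℤ) (l : List (ℕ × ℤ)) :
    ((ins k c l).map fun p => (p.2 : A) * f p.1).sum = (c : A) * f k + (l.map fun p => (p.2 : A) * f p.1).sum := by
  induction l with
  | nil => simp [ins]
  | cons p l ih =>
    unfold ins
    split_ifs with h
    · simp only [List.map_cons, List.sum_cons, Int.cast_add]
      rw [h]
      noncomm_ring
    · simp only [List.map_cons, List.sum_cons]
      rw [ih]
      abel

theorem Cov.sum_coll (hz : σ z = -1) (L : GR) :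
    ((coll L).map fun p => (p.2 : A) * val β σ p.1).sum = ev g σ L := by
  induction L with
  | nil => rfl
  | cons t L ih =>
    have h1 : ev g σ (t :: L) = (t.1 : A) * σ (wd g t.2) + ev g σ L := by
      unfold ev
      rw [List.map_cons, List.sum_cons]
    rw [h1, ← ih, ← H.val_codeW, coll_cons]
    split_ifs with h
    · rw [sum_ins, H.val_neg σ hz, Int.cast_neg, neg_mul_neg]
    · rw [sum_ins]

/-- **Soundness of the check.** -/
theorem Cov.ev_eq_zero (hz : σ z = -1) {m : ℤ} (hm : (m : A) = 0) {L : GR} (h : chk m L = true) : ev g σ L = 0 := by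
  rw [← H.sum_coll σ hz]
  unfold chk at h
  rw [List.all_eq_true] at h
  apply List.sum_eq_zero
  intro a ha
  obtain ⟨p, hp, rfl⟩ := List.mem_map.1 ha
  have h1 : p.2 % m = 0 := by simpa using h p hp
  have h2 : (p.2 : A) = 0 := by
    obtain ⟨c, hc⟩ := Int.dvd_of_emod_eq_zero h1
    rw [hc, Int.cast_mul, hm, zero_mul]
  rw [h2, zero_mul]

omit H in
theorem ev_add (L M : GR) : ev g σ (GR.add L M) = ev g σ L + ev g σ M := by
  unfold ev GR.add
  rw [List.map_append, List.sum_append]

omit H in
theorem ev_smul (c : ℤ) (L : GR) : ev g σ (GR.smul c L) = (c : A) * ev g σ L := by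
  induction L with
  | nil => simp [ev, GR.smul]
  | cons t L ih =>
    unfold ev GR.smul at *
    simp only [List.map_cons, List.sum_cons, Int.cast_mul] at ih ⊢
    rw [ih]
    noncomm_ring

omit H in
theorem ev_mul (L M : GR) : ev g σ (GR.mul L M) = ev g σ L * ev g σ M := by
  have key : ∀ (a : ℤ × List (Fin 5)) (M : GR), ev g σ (M.map fun b => (a.1 * b.1, a.2 ++ b.2)) =
      (a.1 : A) * σ (wd g a.2) * ev g σ M := by
    intro a M
    induction M with
    | nil => simp [ev]
    | cons b M ih =>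
      unfold ev at *
      simp only [List.map_cons, List.sum_cons, Int.cast_mul] at ih ⊢
      rw [ih, wd_append, map_mul, mul_add]
      congr 1
      rw [mul_assoc, mul_assoc, ← mul_assoc (σ (wd g a.2)), ← mul_assoc (b.1 : A), (Int.cast_commute b.1 (σ (wd g a.2))).eq]
  induction L with
  | nil => simp [ev, GR.mul]
  | cons a L ih =>
    have h1 : GR.mul (a :: L) M = (M.map fun b => (a.1 * b.1, a.2 ++ b.2)) ++ GR.mul L M := by
      unfold GR.mul
      rw [List.flatMap_cons]
    have h2 : ev g σ (a :: L) = (a.1 : A) * σ (wd g a.2) + ev g σ L := by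
      unfold ev
      rw [List.map_cons, List.sum_cons]
    have h3 := ev_add (g := g) σ (M.map fun b => (a.1 * b.1, a.2 ++ b.2)) (GR.mul L M)
    unfold GR.add at h3
    rw [h1, h3, key, ih, h2, add_mul]

omit H in
theorem ev_wd (w : List (Fin 5)) : ev g σ (GR.wd w) = σ (wd g w) := by
  simp [ev, GR.wd]

end cov

end Cfsg.Agent.H931.A7D
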