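import Cfsg.Agent.H931.A7D.Rep

/-!
# Quadratic three-cycles (helper931)

If the generators of `2.A₇` satisfy `x² + x + 1 = 0`, the algebra they generate has dimension at most `32`.
-/

set_option autoImplicit false
set_option linter.unusedSectionVars false

namespace Cfsg.Agent.H931.A7D

open Module Subgroup Cfsg.Agent.H637.JW Cfsg.Agent.H882.Dim Cfsg.Agent.H882.Sc Cfsg.Agent.H637.A7Cov

universe u

section alg

variable {K : Type*} [Field K] {A : Type*} [Ring A] [Algebra K A] [FiniteDimensional K A]

/-- the spaces -/
def LL (K : Type*) [Field K] {A : Type*} [Ring A] [Algebra K A] (x : ℕ → A) : ℕ → Submodule K A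
  | 0 => K ∙ (1 : A)
  | k + 1 => LL K x k ⊔ (LL K x k).map (LinearMap.mulLeft K (x k))

theorem LL_finrank (x : ℕ → A) (k : ℕ) : finrank K (LL K x k) ≤ 2 ^ k := by
  induction k with
  | zero =>
    have h1 := finrank_span_le_card (R := K) ({1} : Set A)
    rw [Set.toFinset_card, Fintype.card_unique] at h1
    exact h1
  | succ k ih =>
    have h1 : finrank K (LL K x (k + 1)) ≤ finrank K (LL K x k) + finrank K ((LL K x k).map (LinearMap.mulLeft K (x k))) :=
      Submodule.finrank_add_le_finrank_add_finrank _ _
    have h2 := Submodule.finrank_map_le (LinearMap.mulLeft K (x k)) (LL K x k)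
    rw [pow_succ]
    omega

theorem one_mem_LL (x : ℕ → A) (k : ℕ) : (1 : A) ∈ LL K x k := by
  induction k with
  | zero => exact Submodule.mem_span_singleton_self _
  | succ k ih => exact (le_sup_left : LL K x k ≤ _) ih

theorem LL_mul (x : ℕ → A) (n : ℕ) (hq : ∀ i < n, x i * x i + x i + 1 = 0)
    (hr : ∀ i < n, ∀ j < n, i ≠ j → x i * x j + x j * x i + x i + x j + 1 = 0) (k : ℕ) (hk : k ≤ n) :
    ∀ j < k, ∀ a ∈ LL K x k, x j * a ∈ LL K x k := by
  induction k with
  | zero => intro j hj; omega
  | succ k ih =>
    have ih' := ih (by omega)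
    have hL : LL K x k ≤ LL K x (k + 1) := le_sup_left
    have hX : ∀ a ∈ LL K x k, x k * a ∈ LL K x (k + 1) := fun a ha =>
      (le_sup_right : (LL K x k).map (LinearMap.mulLeft K (x k)) ≤ _) ⟨a, ha, rfl⟩
    intro j hj a ha
    obtain ⟨b, hb, c, hc, rfl⟩ := Submodule.mem_sup.1 ha
    obtain ⟨c, hc, rfl⟩ := hc
    rw [LinearMap.mulLeft_apply, mul_add]
    by_cases hjk : j = k
    · subst hjk
      have h1 : x j * (x j * c) = -(x j * c) - c := by
        have := congrArg (· * c) (hq j (by omega))
        simp only [add_mul, zero_mul, one_mul] at this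
        rw [← mul_assoc]
        linear_combination (norm := noncomm_ring) this
      rw [h1]
      exact Submodule.add_mem _ (hX b hb) (Submodule.sub_mem _ (Submodule.neg_mem _ (hX c hc)) (hL hc))
    · have hjk' : j < k := by omega
      have h1 : x j * (x k * c) = -(x k * (x j * c)) - x j * c - x k * c - c := by
        have := congrArg (· * c) (hr j (by omega) k (by omega) hjk)
        simp only [add_mul, zero_mul, one_mul] at this
        rw [← mul_assoc, ← mul_assoc]
        linear_combination (norm := noncomm_ring) this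
      rw [h1]
      refine Submodule.add_mem _ (hL (ih' j hjk' b hb)) ?_
      exact Submodule.sub_mem _ (Submodule.sub_mem _ (Submodule.sub_mem _ (Submodule.neg_mem _ (hX _ (ih' j hjk' c hc)))
        (hL (ih' j hjk' c hc))) (hX c hc)) (hL hc)

end alg

section rep

variable {K : Type*} [Field K] {V : Type*} [AddCommGroup V] [Module K V] [FiniteDimensional K V]
  {D : Type u} [Group D] {π : D →* alternatingGroup (Fin 7)} {g : Fin 5 → D} {z : D}
  {β : D →* Matrix.GeneralLinearGroup (Fin 4) (ZMod 7)} (H : Cov π g z β) {σ : D →* Module.End K V}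

include H

/-- induction over the generators, for the left multiplication -/
theorem Cov.left_mem {L : Submodule K (Module.End K V)} (h : ∀ i, ∀ a ∈ L, σ (g i) * a ∈ L) (d : D) :
    ∀ a ∈ L, σ d * a ∈ L := by
  have hd : d ∈ closure (Set.range g) := by rw [H.gen]; trivial
  induction hd using closure_induction with
  | mem x hx =>
    obtain ⟨i, rfl⟩ := hx
    exact h i
  | one =>
    intro a ha
    rwa [map_one, one_mul]
  | mul x y _ _ hx hy =>
    intro a ha
    rw [map_mul, mul_assoc]
    exact hx _ (hy a ha)
  | inv x _ hx =>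
    intro a ha
    have := H.fin
    have h1 : x⁻¹ = x ^ (orderOf x - 1) := by
      rw [inv_eq_iff_mul_eq_one, ← pow_succ', Nat.sub_add_cancel (orderOf_pos x), pow_orderOf_eq_one]
    rw [h1, map_pow]
    clear h1
    induction (orderOf x - 1) with
    | zero => rwa [pow_zero, one_mul]
    | succ m ih =>
      rw [pow_succ', mul_assoc]
      exact hx _ ih

/-- **Quadratic three-cycles are impossible.** -/
theorem Cov.not_quadratic (hz : σ z = -1) (hspan : Submodule.span K (Set.range σ) = ⊤) (hn : finrank K V = 12)
    (hq : ∀ i, 1 + σ (g i) + σ (g i) * σ (g i) = 0) : False := by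
  let x : ℕ → Module.End K V := fun i => if h : i < 5 then σ (g ⟨i, h⟩) else 0
  have hx : ∀ i (h : i < 5), x i = σ (g ⟨i, h⟩) := fun i h => dif_pos h
  have hxq : ∀ i < 5, x i * x i + x i + 1 = 0 := by
    intro i hi
    rw [hx i hi]
    have := hq ⟨i, hi⟩
    rw [← this]
    abel
  have hr : ∀ i < 5, ∀ j < 5, i ≠ j → x i * x j + x j * x i + x i + x j + 1 = 0 := by
    intro i hi j hj hij
    have h1 : (x i * x j) * (x i * x j) = -1 := by
      rw [hx i hi, hx j hj, ← map_mul, ← map_mul, ← pow_two, H.sq _ _ (by
        intro h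
        exact hij (congrArg Fin.val h)), hz]
    have hi3 := hxq i hi
    have hj3 := hxq j hj
    -- `x⁻¹ = x²`
    have ei : x i * x i * x i = 1 := by
      have : x i * x i * x i = x i * (x i * x i + x i + 1) - (x i * x i + x i + 1) + 1 := by noncomm_ring
      rw [this, hi3]
      simp
    have ej : x j * x j * x j = 1 := by
      have : x j * x j * x j = x j * (x j * x j + x j + 1) - (x j * x j + x j + 1) + 1 := by noncomm_ring
      rw [this, hj3]
      simp
    -- `x i x j = - x j² x i²`
    have e1 : x i * x j = -(x j * x j * (x i * x i)) := by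
      have e2 : x i * x j * (x i * x j) * (x j * x j * (x i * x i)) = x i * x j := by
        calc x i * x j * (x i * x j) * (x j * x j * (x i * x i))
            = x i * x j * (x i * (x j * x j * x j) * x i * x i) := by noncomm_ring
          _ = x i * x j := by rw [ej, mul_one, ei, mul_one]
      rw [h1, neg_one_mul] at e2
      exact e2.symm
    have fi : x i * x i = -x i - 1 := by linear_combination (norm := noncomm_ring) hi3
    have fj : x j * x j = -x j - 1 := by linear_combination (norm := noncomm_ring) hj3
    rw [fi, fj] at e1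
    linear_combination (norm := noncomm_ring) e1
  have h5 := LL_mul (K := K) x 5 hxq hr 5 le_rfl
  have h6 : ∀ d, ∀ a ∈ LL K x 5, σ d * a ∈ LL K x 5 := H.left_mem fun i a ha => by
    have := h5 i i.2 a ha
    rwa [hx i i.2] at this
  have h7 : (⊤ : Submodule K (Module.End K V)) ≤ LL K x 5 := by
    rw [← hspan, Submodule.span_le]
    rintro _ ⟨d, rfl⟩
    have := h6 d 1 (one_mem_LL x 5)
    rwa [mul_one] at this
  have h8 := Submodule.finrank_mono h7
  have h9 := LL_finrank (K := K) x 5
  rw [finrank_top, Module.finrank_linearMap, hn] at h8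
  omega

end rep

end Cfsg.Agent.H931.A7D
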