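import Mathlib

/-!
# Four by four matrices over `ZMod 7` encoded by natural numbers (helper931)
-/

set_option autoImplicit false

namespace Cfsg.Agent.H931.A7D

/-- the base 8 number with the given digits -/
def pack (l : List ℕ) : ℕ := l.foldr (fun e acc => e + 8 * acc) 0

/-- a digit -/
def dig (c m : ℕ) : ℕ := c / 8 ^ m % 8

theorem dig_pack (l : List ℕ) (hl : ∀ e ∈ l, e < 8) (m : ℕ) : dig (pack l) m = l.getD m 0 := by
  induction l generalizing m with
  | nil => simp [pack, dig]
  | cons e l ih =>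
    have he : e < 8 := hl e List.mem_cons_self
    have ih' := ih (fun x hx => hl x (List.mem_cons_of_mem _ hx))
    have h1 : pack (e :: l) = e + 8 * pack l := rfl
    cases m with
    | zero =>
      rw [dig, pow_zero, Nat.div_one, h1, Nat.add_mul_mod_self_left, Nat.mod_eq_of_lt he]
      rfl
    | succ m =>
      rw [List.getD_cons_succ, ← ih' m, dig, dig, h1, pow_succ', ← Nat.div_div_eq_div_mul,
        Nat.add_mul_div_left _ _ (by norm_num), Nat.div_eq_of_lt he, zero_add]

/-- the matrix with a given code -/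
def toM (c : ℕ) : Matrix (Fin 4) (Fin 4) (ZMod 7) := fun i j => (dig c (4 * i + j) : ℕ)

/-- an entry of the product -/
def ent (a b i j : ℕ) : ℕ :=
  (dig a (4 * i) * dig b j + dig a (4 * i + 1) * dig b (4 + j) + dig a (4 * i + 2) * dig b (8 + j) +
    dig a (4 * i + 3) * dig b (12 + j)) % 7

/-- the code of the product -/
def mulC (a b : ℕ) : ℕ :=
  pack [ent a b 0 0, ent a b 0 1, ent a b 0 2, ent a b 0 3, ent a b 1 0, ent a b 1 1, ent a b 1 2, ent a b 1 3,
    ent a b 2 0, ent a b 2 1, ent a b 2 2, ent a b 2 3, ent a b 3 0, ent a b 3 1, ent a b 3 2, ent a b 3 3]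

/-- an entry of the negative -/
def nent (a i : ℕ) : ℕ := (7 - dig a i % 7) % 7

/-- the code of the negative -/
def negC (a : ℕ) : ℕ :=
  pack [nent a 0, nent a 1, nent a 2, nent a 3, nent a 4, nent a 5, nent a 6, nent a 7, nent a 8, nent a 9, nent a 10,
    nent a 11, nent a 12, nent a 13, nent a 14, nent a 15]

theorem ent_lt (a b i j : ℕ) : ent a b i j < 8 := (Nat.mod_lt _ (by norm_num)).trans (by norm_num)
theorem nent_lt (a i : ℕ) : nent a i < 8 := (Nat.mod_lt _ (by norm_num)).trans (by norm_num)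

theorem cast_ent (a b i j : ℕ) : ((ent a b i j : ℕ) : ZMod 7) =
    dig a (4 * i) * dig b j + dig a (4 * i + 1) * dig b (4 + j) + dig a (4 * i + 2) * dig b (8 + j) +
    dig a (4 * i + 3) * dig b (12 + j) := by
  unfold ent
  rw [ZMod.natCast_mod]
  push_cast
  rfl

theorem cast_nent (a i : ℕ) : ((nent a i : ℕ) : ZMod 7) = - dig a i := by
  unfold nent
  rw [ZMod.natCast_mod, Nat.cast_sub (Nat.mod_lt _ (by norm_num)).le, ZMod.natCast_mod, ZMod.natCast_self, zero_sub]

theorem toM_mulC (a b : ℕ) : toM (mulC a b) = toM a * toM b := by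
  ext i j
  rw [Matrix.mul_apply, Fin.sum_univ_four]
  have h1 : ∀ m, dig (mulC a b) m = [ent a b 0 0, ent a b 0 1, ent a b 0 2, ent a b 0 3, ent a b 1 0, ent a b 1 1,
      ent a b 1 2, ent a b 1 3, ent a b 2 0, ent a b 2 1, ent a b 2 2, ent a b 2 3, ent a b 3 0, ent a b 3 1,
      ent a b 3 2, ent a b 3 3].getD m 0 := by
    intro m
    refine dig_pack _ ?_ m
    simp only [List.mem_cons, List.not_mem_nil, or_false, forall_eq_or_imp, forall_eq, ent_lt, and_self]
  have h2 : toM (mulC a b) i j = ((dig (mulC a b) (4 * i + j) : ℕ) : ZMod 7) := rfl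
  rw [h2, h1]
  fin_cases i <;> fin_cases j <;> exact cast_ent a b _ _

theorem toM_negC (a : ℕ) : toM (negC a) = - toM a := by
  ext i j
  have h1 : ∀ m, dig (negC a) m = [nent a 0, nent a 1, nent a 2, nent a 3, nent a 4, nent a 5, nent a 6, nent a 7,
      nent a 8, nent a 9, nent a 10, nent a 11, nent a 12, nent a 13, nent a 14, nent a 15].getD m 0 := by
    intro m
    refine dig_pack _ ?_ m
    simp only [List.mem_cons, List.not_mem_nil, or_false, forall_eq_or_imp, forall_eq, nent_lt, and_self]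
  have h2 : toM (negC a) i j = ((dig (negC a) (4 * i + j) : ℕ) : ZMod 7) := rfl
  rw [h2, h1, Matrix.neg_apply]
  fin_cases i <;> fin_cases j <;> exact cast_nent a _

end Cfsg.Agent.H931.A7D
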