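import Cfsg.Agent.H931.A7D.PathA

/-!
# Data for the group ring of `2.A₇` (helper931)
-/

set_option autoImplicit false

namespace Cfsg.Agent.H931.A7D

/-- lifts of order three of the three-cycles `(i j k)`, `i < j < k`, indexed by the decimal number `ijk` -/
def w3 : ℕ → List (Fin 5)
  | 12 => [0]
  | 13 => [1]
  | 14 => [2]
  | 15 => [3]
  | 16 => [4]
  | 23 => [1, 1, 0, 1]
  | 24 => [2, 1, 0, 1]
  | 25 => [3, 1, 0, 1]
  | 26 => [4, 1, 0, 1]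
  | 34 => [2, 0, 1, 0]
  | 35 => [3, 0, 1, 0]
  | 36 => [4, 0, 1, 0]
  | 45 => [3, 0, 2, 0]
  | 46 => [4, 0, 2, 0]
  | 56 => [4, 0, 3, 0]
  | 123 => [0, 1, 0, 0]
  | 124 => [0, 2, 0, 0]
  | 125 => [0, 3, 0, 0]
  | 126 => [0, 4, 0, 0]
  | 134 => [0, 2, 0, 1]
  | 135 => [0, 3, 0, 1]
  | 136 => [0, 4, 0, 1]
  | 145 => [0, 3, 0, 2]
  | 146 => [0, 4, 0, 2]
  | 156 => [0, 4, 0, 3]
  | 234 => [0, 0, 2, 0, 1, 0, 0]
  | 235 => [0, 0, 3, 0, 1, 0, 0]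
  | 236 => [0, 0, 4, 0, 1, 0, 0]
  | 245 => [0, 0, 3, 0, 2, 0, 0]
  | 246 => [0, 0, 4, 0, 2, 0, 0]
  | 256 => [0, 0, 4, 0, 3, 0, 0]
  | 345 => [0, 1, 0, 3, 2, 2, 1]
  | 346 => [0, 1, 0, 4, 2, 2, 1]
  | 356 => [0, 1, 0, 4, 3, 3, 1]
  | 456 => [0, 2, 0, 4, 3, 3, 2]
  | _ => []

/-- `1 + x + x²` -/
def NN (k : ℕ) : GR := [(1, []), (1, w3 k), (1, w3 k ++ w3 k)]

/-- sums of such elements -/
def NS (l : List ℕ) : GR := l.flatMap NN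

/-- elements of order five -/
def wx : List (Fin 5) := [0, 0, 1, 2]
def wy5 : List (Fin 5) := [0, 2, 1, 1]

/-- `1 + x + x² + x³ + x⁴` -/
def PH (w : List (Fin 5)) : GR := [(1, []), (1, w), (1, w ++ w), (1, w ++ (w ++ w)), (1, w ++ (w ++ (w ++ w)))]

/-- combinations of `u (1 + x + x² + x³ + x⁴) v` -/
def cert (l : List (ℤ × List (Fin 5) × List (Fin 5))) : GR :=
  l.flatMap fun t => GR.mul (GR.mul [(t.1, t.2.1)] (PH wx)) [(1, t.2.2)]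

/-- the triples in a set of digits -/
def tr3 (l : List ℕ) : List ℕ := (l.sublistsLen 3).map fun t => 100 * t.getD 0 0 + 10 * t.getD 1 0 + t.getD 2 0

end Cfsg.Agent.H931.A7D
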