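import Cfsg.Agent.H931.A7D.Cliff

/-!
# Eigenvalue multiplicities for elements of order 3, 5, 7 (helper931)
-/

set_option autoImplicit false
set_option linter.unusedSectionVars false

namespace Cfsg.Agent.H931.A7D

open Module Subgroup Cfsg.Agent.H637.JW Cfsg.Agent.H882.Dim Cfsg.Agent.H882.Sc Cfsg.Agent.H637.A7Cov

universe u

section words

variable {D : Type u} [Group D] {π : D →* alternatingGroup (Fin 7)} {g : Fin 5 → D} {z : D}
  {β : D →* Matrix.GeneralLinearGroup (Fin 4) (ZMod 7)} (H : Cov π g z β)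

include H

theorem Cov.z_eq : z = wd g [0, 1, 0, 1] := by
  have h1 := H.sq 0 1 (by decide)
  rw [pow_two] at h1
  rw [← h1]
  simp [wd, mul_assoc]

theorem Cov.rel {A B C E : List (Fin 5)} (h : codeW (A ++ B) = codeW (C ++ E)) :
    wd g A * wd g B = wd g C * wd g E := by
  rw [← wd_append, ← wd_append]
  exact H.wd_eq h

theorem Cov.rel1 {A B C : List (Fin 5)} (h : codeW (A ++ B) = codeW C) : wd g A * wd g B = wd g C := by
  rw [← wd_append]
  exact H.wd_eq h

theorem Cov.wcube {A : List (Fin 5)} (h : codeW (A ++ (A ++ A)) = codeW []) : wd g A * wd g A * wd g A = 1 := by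
  have h1 : wd g (A ++ (A ++ A)) = wd g [] := H.wd_eq h
  rw [wd_append, wd_append, ← mul_assoc] at h1
  exact h1

theorem Cov.pow_one {A : List (Fin 5)} (n : ℕ) (h : codeW (List.replicate n A).flatten = codeW []) :
    wd g A ^ n = 1 := by
  have h1 : ∀ n, wd g (List.replicate n A).flatten = wd g A ^ n := by
    intro n
    induction n with
    | zero => rw [List.replicate_zero, pow_zero]; rfl
    | succ n ih => rw [List.replicate_succ, List.flatten_cons, wd_append, ih, pow_succ']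
  rw [← h1]
  exact H.wd_eq h

theorem Cov.z_mem {A B : List (Fin 5)} (l : List Bool)
    (h : codeW (l.flatMap fun b => if b then B else A) = codeW [0, 1, 0, 1]) : z ∈ closure ({wd g A, wd g B} : Set D) := by
  have h1 : ∀ l : List Bool, wd g (l.flatMap fun b => if b then B else A) ∈ closure ({wd g A, wd g B} : Set D) := by
    intro l
    induction l with
    | nil => exact one_mem _
    | cons b l ih =>
      rw [List.flatMap_cons, wd_append]
      refine mul_mem ?_ ih
      cases b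
      · exact subset_closure (Or.inl rfl)
      · exact subset_closure (Or.inr rfl)
  rw [H.z_eq, ← H.wd_eq h]
  exact h1 l

/-- elements of order four -/
theorem Cov.sq_neg {K : Type*} [Field K] {V : Type*} [AddCommGroup V] [Module K V] {σ : D →* Module.End K V}
    (hz : σ z = -1) {A : List (Fin 5)} (h : codeW (A ++ A) = codeW [0, 1, 0, 1]) (v : V) :
    σ (wd g A) (σ (wd g A) v) = -v := by
  rw [← mul_apply', ← wd_append, H.wd_eq h, ← H.z_eq, hz]
  rfl

theorem Cov.anti {K : Type*} [Field K] {V : Type*} [AddCommGroup V] [Module K V] {σ : D →* Module.End K V}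
    (hz : σ z = -1) {A B : List (Fin 5)} (h : codeW (A ++ B) = negC (codeW (B ++ A))) (v : V) :
    σ (wd g A) (σ (wd g B) v) = -(σ (wd g B) (σ (wd g A) v)) := by
  rw [← mul_apply', ← wd_append, H.wd_neg h, map_mul, hz, wd_append, neg_one_mul, LinearMap.neg_apply, mul_apply']

end words

section eig

variable {K : Type*} [Field K] [IsAlgClosed K] {V : Type*} [AddCommGroup V] [Module K V] [FiniteDimensional K V]
  {G : Type*} [Group G] {σ : G →* Module.End K V}

theorem sum_Eg {c : G} {r : ℕ} [NeZero r] (hrK : (r : K) ≠ 0) (hc : c ^ r = 1) {ζ : K} (hζ : IsPrimitiveRoot ζ r) :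
    ∑ j : ZMod r, finrank K (Eg σ c (ζ ^ j.val)) = finrank K V := by
  classical
  have hsum := sum_W (V := V) hrK hζ (f := fun _ : Unit => σ c) (fun _ _ => rfl)
    (fun _ => by rw [← map_pow, hc, map_one])
  have hW : ∀ d : Unit → ZMod r, finrank K (W r ζ (fun _ : Unit => σ c) d) = finrank K (Eg σ c (ζ ^ (d ()).val)) := by
    intro d
    have : W r ζ (fun _ : Unit => σ c) d = Eg σ c (ζ ^ (d ()).val) := by
      ext v
      rw [mem_W, mem_Eg]
      exact ⟨fun h => h (), fun h _ => h⟩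
    rw [this]
  rw [← hsum, Finset.sum_congr rfl fun d _ => hW d]
  exact (Fintype.sum_equiv (Equiv.funUnique Unit (ZMod r)) _ _ fun d => rfl).symm

theorem Eg_le_mul {c y : G} {k r : ℕ} [NeZero r] {ζ : K} (hζ : IsPrimitiveRoot ζ r) (h : y * c * y⁻¹ = c ^ k)
    (j : ZMod r) : finrank K (Eg σ c (ζ ^ j.val)) ≤ finrank K (Eg σ c (ζ ^ (j * k : ZMod r).val)) := by
  have h1 := finrank_Eg_pow (σ := σ) h (ζ ^ j.val)
  have h2 : (ζ ^ j.val) ^ k = ζ ^ (j * k : ZMod r).val := by
    rw [← pow_mul, ZMod.val_mul, ← pow_mod_of_pow_eq_one hζ.pow_eq_one (j.val * k),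
      ZMod.val_natCast, Nat.mul_mod_mod]
  rw [h2] at h1
  exact h1

theorem Eg_one {c : G} : Eg σ c (1 : K) = Fix σ c := rfl

/-- order three -/
theorem eig_three (h3 : (3 : K) ≠ 0) {c y : G} (hc : c * c * c = 1) (h : y * c * y⁻¹ = c * c) :
    ∃ ζ : K, IsPrimitiveRoot ζ 3 ∧ finrank K V = finrank K (Fix σ c) + 2 * finrank K (Eg σ c ζ) := by
  have h3' : ((3 : ℕ) : K) ≠ 0 := by exact_mod_cast h3
  obtain ⟨ζ, hζ⟩ := exists_root (K := K) h3'
  refine ⟨ζ, hζ, ?_⟩
  have hc3 : c ^ 3 = 1 := by rw [pow_succ, pow_two, hc]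
  have hs := sum_Eg (σ := σ) h3' hc3 hζ
  have h2 : y * c * y⁻¹ = c ^ 2 := by rw [h, pow_two]
  have e1 := Eg_le_mul (σ := σ) hζ h2 (1 : ZMod 3)
  have e2 := Eg_le_mul (σ := σ) hζ h2 (2 : ZMod 3)
  have hu : (Finset.univ : Finset (ZMod 3)) = {0, 1, 2} := by decide
  rw [hu, Finset.sum_insert (by decide), Finset.sum_insert (by decide), Finset.sum_singleton] at hs
  have v0 : (0 : ZMod 3).val = 0 := by decide
  have v1 : (1 : ZMod 3).val = 1 := by decide
  have v2 : (2 : ZMod 3).val = 2 := by decide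
  have m1 : ((1 : ZMod 3) * ((2 : ℕ) : ZMod 3)).val = 2 := by decide
  have m2 : ((2 : ZMod 3) * ((2 : ℕ) : ZMod 3)).val = 1 := by decide
  rw [v0, v1, v2, pow_zero, pow_one] at hs
  rw [v1, m1, pow_one] at e1
  rw [v2, m2, pow_one] at e2
  rw [Eg_one] at hs
  omega

/-- order five -/
theorem eig_five (h5 : (5 : K) ≠ 0) {c y : G} (hc : c ^ 5 = 1) (h : y * c * y⁻¹ = c ^ 2) :
    ∃ m, finrank K V = finrank K (Fix σ c) + 4 * m := by
  have h5' : ((5 : ℕ) : K) ≠ 0 := by exact_mod_cast h5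
  obtain ⟨ζ, hζ⟩ := exists_root (K := K) h5'
  have hs := sum_Eg (σ := σ) h5' hc hζ
  have e1 := Eg_le_mul (σ := σ) hζ h (1 : ZMod 5)
  have e2 := Eg_le_mul (σ := σ) hζ h (2 : ZMod 5)
  have e4 := Eg_le_mul (σ := σ) hζ h (4 : ZMod 5)
  have e3 := Eg_le_mul (σ := σ) hζ h (3 : ZMod 5)
  have hu : (Finset.univ : Finset (ZMod 5)) = {0, 1, 2, 3, 4} := by decide
  rw [hu, Finset.sum_insert (by decide), Finset.sum_insert (by decide), Finset.sum_insert (by decide),
    Finset.sum_insert (by decide), Finset.sum_singleton] at hs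
  have v0 : (0 : ZMod 5).val = 0 := by decide
  have v1 : (1 : ZMod 5).val = 1 := by decide
  have v2 : (2 : ZMod 5).val = 2 := by decide
  have v3 : (3 : ZMod 5).val = 3 := by decide
  have v4 : (4 : ZMod 5).val = 4 := by decide
  have m1 : ((1 : ZMod 5) * ((2 : ℕ) : ZMod 5)).val = 2 := by decide
  have m2 : ((2 : ZMod 5) * ((2 : ℕ) : ZMod 5)).val = 4 := by decide
  have m4 : ((4 : ZMod 5) * ((2 : ℕ) : ZMod 5)).val = 3 := by decide
  have m3 : ((3 : ZMod 5) * ((2 : ℕ) : ZMod 5)).val = 1 := by decide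
  rw [v0, v1, v2, v3, v4, pow_zero] at hs
  rw [v1, m1] at e1
  rw [v2, m2] at e2
  rw [v4, m4] at e4
  rw [v3, m3] at e3
  rw [Eg_one] at hs
  exact ⟨finrank K (Eg σ c (ζ ^ 1)), by omega⟩

/-- order seven, normalised by an element `y` of order three: `dim V ≤ dim V^c + 3 dim V^y` -/
theorem eig_seven (h7 : (7 : K) ≠ 0) {c y : G} (hc : c ^ 7 = 1) (hy : y * y * y = 1) (h : y * c * y⁻¹ = c ^ 2) :
    finrank K V ≤ finrank K (Fix σ c) + 3 * finrank K (Fix σ y) := by
  have h7' : ((7 : ℕ) : K) ≠ 0 := by exact_mod_cast h7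
  obtain ⟨ζ, hζ⟩ := exists_root (K := K) h7'
  have hs := sum_Eg (σ := σ) h7' hc hζ
  have e1 := Eg_le_mul (σ := σ) hζ h (1 : ZMod 7)
  have e2 := Eg_le_mul (σ := σ) hζ h (2 : ZMod 7)
  have e4 := Eg_le_mul (σ := σ) hζ h (4 : ZMod 7)
  have e3 := Eg_le_mul (σ := σ) hζ h (3 : ZMod 7)
  have e6 := Eg_le_mul (σ := σ) hζ h (6 : ZMod 7)
  have e5 := Eg_le_mul (σ := σ) hζ h (5 : ZMod 7)
  have hu : (Finset.univ : Finset (ZMod 7)) = {0, 1, 2, 3, 4, 5, 6} := by decide
  rw [hu, Finset.sum_insert (by decide), Finset.sum_insert (by decide), Finset.sum_insert (by decide),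
    Finset.sum_insert (by decide), Finset.sum_insert (by decide), Finset.sum_insert (by decide),
    Finset.sum_singleton] at hs
  have v0 : (0 : ZMod 7).val = 0 := by decide
  have v1 : (1 : ZMod 7).val = 1 := by decide
  have v2 : (2 : ZMod 7).val = 2 := by decide
  have v3 : (3 : ZMod 7).val = 3 := by decide
  have v4 : (4 : ZMod 7).val = 4 := by decide
  have v5 : (5 : ZMod 7).val = 5 := by decide
  have v6 : (6 : ZMod 7).val = 6 := by decide
  have m1 : ((1 : ZMod 7) * ((2 : ℕ) : ZMod 7)).val = 2 := by decide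
  have m2 : ((2 : ZMod 7) * ((2 : ℕ) : ZMod 7)).val = 4 := by decide
  have m4 : ((4 : ZMod 7) * ((2 : ℕ) : ZMod 7)).val = 1 := by decide
  have m3 : ((3 : ZMod 7) * ((2 : ℕ) : ZMod 7)).val = 6 := by decide
  have m6 : ((6 : ZMod 7) * ((2 : ℕ) : ZMod 7)).val = 5 := by decide
  have m5 : ((5 : ZMod 7) * ((2 : ℕ) : ZMod 7)).val = 3 := by decide
  rw [v0, v1, v2, v3, v4, v5, v6, pow_zero] at hs
  rw [v1, m1] at e1
  rw [v2, m2] at e2
  rw [v4, m4] at e4
  rw [v3, m3] at e3
  rw [v6, m6] at e6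
  rw [v5, m5] at e5
  rw [Eg_one] at hs
  -- the injection
  have hsum : finrank K (Eg σ c (ζ ^ 1)) + finrank K (Eg σ c (ζ ^ 3)) ≤ finrank K (Fix σ y) := by
    have hact : ∀ μ : K, ∀ v ∈ Eg σ c μ, σ y⁻¹ v ∈ Eg σ c (μ ^ 2) := by
      intro μ v hv
      rw [mem_Eg] at hv ⊢
      have h1 : c * y⁻¹ = y⁻¹ * c ^ 2 := by rw [← h]; group
      rw [← mul_apply', h1, mul_apply', map_pow, pow_apply hv, map_smul]
    have hyi : y⁻¹ * y⁻¹ * y⁻¹ = 1 := by
      have : y⁻¹ * y⁻¹ * y⁻¹ = (y * y * y)⁻¹ := by group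
      rw [this, hy, inv_one]
    set t := σ y⁻¹ with ht
    have htt : ∀ v, t (t (t v)) = v := fun v => by
      rw [ht, ← mul_apply', ← mul_apply', hyi, act_one]
    let U : Submodule K V := Eg σ c (ζ ^ 1) ⊔ Eg σ c (ζ ^ 3)
    let f : U →ₗ[K] V := (1 + t + t * t).comp U.subtype
    have hind : ∀ a b c' d e f' : V, a ∈ Eg σ c (ζ ^ 1) → b ∈ Eg σ c (ζ ^ 2) → c' ∈ Eg σ c (ζ ^ 4) →
        d ∈ Eg σ c (ζ ^ 3) → e ∈ Eg σ c (ζ ^ 6) → f' ∈ Eg σ c (ζ ^ 5) → a + b + c' + d + e + f' = 0 → a + d = 0 := by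
      intro a b c' d e f' ha hb hc' hd he hf' h0
      have hindep := (σ c).eigenspaces_iSupIndep
      have hne : ∀ i j : ℕ, i < 7 → j < 7 → i ≠ j → ζ ^ i ≠ ζ ^ j := fun i j hi hj hij h =>
        hij (hζ.pow_inj hi hj h)
      have ha0 : a = 0 := by
        have hd1 := hindep (ζ ^ 1)
        rw [Submodule.disjoint_def] at hd1
        refine hd1 a ha ?_
        have h1 : a = -b + -c' + -d + -e + -f' := by linear_combination (norm := abel) h0
        rw [h1]
        have key : ∀ (i : ℕ) (w : V), i < 7 → i ≠ 1 → w ∈ Eg σ c (ζ ^ i) →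
            -w ∈ ⨆ μ, ⨆ (_ : μ ≠ ζ ^ 1), (σ c).eigenspace μ := by
          intro i w hi h1 hw
          exact Submodule.neg_mem _ (Submodule.mem_iSup_of_mem (ζ ^ i) (Submodule.mem_iSup_of_mem
            (hne i 1 hi (by norm_num) h1) hw))
        exact Submodule.add_mem _ (Submodule.add_mem _ (Submodule.add_mem _ (Submodule.add_mem _
          (key 2 b (by norm_num) (by norm_num) hb) (key 4 c' (by norm_num) (by norm_num) hc'))
          (key 3 d (by norm_num) (by norm_num) hd)) (key 6 e (by norm_num) (by norm_num) he))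
          (key 5 f' (by norm_num) (by norm_num) hf')
      have hd0 : d = 0 := by
        have hd1 := hindep (ζ ^ 3)
        rw [Submodule.disjoint_def] at hd1
        refine hd1 d hd ?_
        have h1 : d = -a + -b + -c' + -e + -f' := by linear_combination (norm := abel) h0
        rw [h1]
        have key : ∀ (i : ℕ) (w : V), i < 7 → i ≠ 3 → w ∈ Eg σ c (ζ ^ i) →
            -w ∈ ⨆ μ, ⨆ (_ : μ ≠ ζ ^ 3), (σ c).eigenspace μ := by
          intro i w hi h1 hw
          exact Submodule.neg_mem _ (Submodule.mem_iSup_of_mem (ζ ^ i) (Submodule.mem_iSup_of_mem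
            (hne i 3 hi (by norm_num) h1) hw))
        exact Submodule.add_mem _ (Submodule.add_mem _ (Submodule.add_mem _ (Submodule.add_mem _
          (key 1 a (by norm_num) (by norm_num) ha) (key 2 b (by norm_num) (by norm_num) hb))
          (key 4 c' (by norm_num) (by norm_num) hc')) (key 6 e (by norm_num) (by norm_num) he))
          (key 5 f' (by norm_num) (by norm_num) hf')
      rw [ha0, hd0, add_zero]
    have hfi : Function.Injective f := by
      rw [injective_iff_map_eq_zero]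
      rintro ⟨v, hv⟩ h0
      obtain ⟨a, ha, d, hd, rfl⟩ := Submodule.mem_sup.1 hv
      have h1 : (a + d) + t (a + d) + t (t (a + d)) = 0 := h0
      have ha1 := hact _ _ ha
      have ha2 := hact _ _ ha1
      have hd1 := hact _ _ hd
      have hd2 := hact _ _ hd1
      have p8 : ζ ^ 7 = 1 := hζ.pow_eq_one
      have q1 : (ζ ^ 1) ^ 2 = ζ ^ 2 := by ring
      have q2 : (ζ ^ 2) ^ 2 = ζ ^ 4 := by ring
      have q3 : (ζ ^ 3) ^ 2 = ζ ^ 6 := by ring
      have q4 : (ζ ^ 6) ^ 2 = ζ ^ 5 := by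
        have : (ζ ^ 6) ^ 2 = ζ ^ 5 * ζ ^ 7 := by ring
        rw [this, p8, mul_one]
      rw [q1] at ha1 ha2
      rw [q2] at ha2
      rw [q3] at hd1 hd2
      rw [q4] at hd2
      refine Subtype.ext (hind a (t a) (t (t a)) d (t d) (t (t d)) ha ha1 ha2 hd hd1 hd2 ?_)
      rw [← h1, map_add, map_add]
      abel
    have hr : LinearMap.range f ≤ Fix σ y := by
      rintro _ ⟨⟨v, hv⟩, rfl⟩
      change v + t v + t (t v) ∈ Fix σ y
      have hty : ∀ v, σ y (t v) = v := fun v => by rw [ht, ← mul_apply', mul_inv_cancel, act_one]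
      rw [mem_Fix, map_add, map_add, hty, hty]
      have : σ y v = t (t v) := by
        conv_lhs => rw [← htt v]
        rw [hty]
      rw [this]
      abel
    have h1 := Submodule.finrank_mono hr
    rw [LinearMap.finrank_range_of_inj hfi] at h1
    have h2 := Submodule.finrank_sup_add_finrank_inf_eq (Eg σ c (ζ ^ 1)) (Eg σ c (ζ ^ 3))
    have h3 : Eg σ c (ζ ^ 1) ⊓ Eg σ c (ζ ^ 3) = ⊥ := by
      rw [Submodule.eq_bot_iff]
      rintro v ⟨h1, h3⟩
      have h1' := mem_Eg.1 h1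
      have h3' := mem_Eg.1 h3
      have h4 : (ζ ^ 1 - ζ ^ 3) • v = 0 := by rw [sub_smul, ← h1', ← h3', sub_self]
      refine (smul_eq_zero.1 h4).resolve_left (sub_ne_zero.2 fun h5 => ?_)
      have := hζ.pow_inj (by norm_num) (by norm_num) h5
      omega
    rw [h3, finrank_bot, add_zero] at h2
    rw [← h2]
    exact h1
  omega

end eig

end Cfsg.Agent.H931.A7D
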