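import Cfsg.Agent.H931.A7D.Eig

/-!
# `2.A₇` in degree 12: the characteristics different from 2, 3, 7 (helper931)

`three` : `p ≠ 2, 3` : the three-cycles `a` have `dim V^a = 4`, their products with disjoint ones `dim V^(ab) = 2`.
`path_a` : contradiction for `p ≠ 7`.
-/

set_option autoImplicit false
set_option linter.unusedSectionVars false
set_option maxRecDepth 100000

namespace Cfsg.Agent.H931.A7D

open Module Subgroup Cfsg.Agent.H637.JW Cfsg.Agent.H882.Dim Cfsg.Agent.H882.Sc Cfsg.Agent.H637.A7Cov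

universe u

variable {K : Type*} [Field K] [IsAlgClosed K] {V : Type*} [AddCommGroup V] [Module K V] [FiniteDimensional K V]
  {D : Type u} [Group D] {π : D →* alternatingGroup (Fin 7)} {g : Fin 5 → D} {z : D}
  {β : D →* Matrix.GeneralLinearGroup (Fin 4) (ZMod 7)} (H : Cov π g z β) {σ : D →* Module.End K V}

/-- `(3 4 5)` -/
abbrev wb : List (Fin 5) := [0, 1, 0, 3, 2, 2, 1]
/-- `(3 4 6)` -/
abbrev wb' : List (Fin 5) := [0, 1, 0, 4, 2, 2, 1]
/-- elements of order four above `(3 4)(5 6)`, `(3 5)(4 6)` -/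
abbrev wi : List (Fin 5) := [1, 3, 2, 4, 1, 3]
abbrev wj : List (Fin 5) := [1, 2, 3, 4, 1, 2]
/-- the element of order seven and an element of order three normalising it -/
abbrev w7 : List (Fin 5) := [0, 1, 2, 3, 4]
abbrev wy : List (Fin 5) := [0, 0, 3, 3, 2, 4]
abbrev w7' : List (Fin 5) := [0, 4, 3, 2, 1]

include H

theorem Cov.conj_gen (i : Fin 5) : finrank K (Fix σ (g i)) = finrank K (Fix σ (g 0)) := by
  have h1 : ∀ (A : List (Fin 5)) (i : Fin 5), codeW (A ++ [0]) = codeW ([i] ++ A) →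
      finrank K (Fix σ (g i)) = finrank K (Fix σ (g 0)) := by
    intro A i h
    have h2 : wd g A * wd g [0] = wd g [i] * wd g A := H.rel h
    have h3 : ∀ i, wd g [i] = g i := fun i => by simp [wd]
    rw [h3, h3] at h2
    exact fix_conj h2
  fin_cases i
  · rfl
  · exact h1 [0, 2, 2, 1] 1 (by decide +kernel)
  · exact h1 [0, 1, 1, 2] 2 (by decide +kernel)
  · exact h1 [0, 1, 1, 3] 3 (by decide +kernel)
  · exact h1 [0, 1, 1, 4] 4 (by decide +kernel)

theorem Cov.quad_of_fix {x : D} (hx : x * x * x = 1) (h : Fix σ x = ⊥) : 1 + σ x + σ x * σ x = 0 := by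
  ext v
  have h1 : v + σ x v + σ x (σ x v) ∈ Fix σ x := by
    rw [mem_Fix, map_add, map_add]
    have : σ x (σ x (σ x v)) = v := by rw [← mul_apply', ← mul_apply', hx, act_one]
    rw [this]
    abel
  rw [h, Submodule.mem_bot] at h1
  exact h1

theorem Cov.gcube (i : Fin 5) : g i * g i * g i = 1 := by
  have := H.cube i
  rwa [pow_succ, pow_two] at this

/-- the space of fixed vectors of a three-cycle is not zero -/
theorem Cov.fix_ne (hz : σ z = -1) (hspan : Submodule.span K (Set.range σ) = ⊤) (hn : finrank K V = 12) :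
    0 < finrank K (Fix σ (g 0)) := by
  by_contra h0
  refine H.not_quadratic hz hspan hn fun i => ?_
  apply H.quad_of_fix (H.gcube i)
  rw [← Submodule.finrank_eq_zero (R := K), H.conj_gen i]
  omega

/-- **`p ≠ 2, 3`.** -/
theorem Cov.three (hz : σ z = -1) (h2 : (2 : K) ≠ 0) (h3 : (3 : K) ≠ 0)
    (hspan : Submodule.span K (Set.range σ) = ⊤) (hn : finrank K V = 12) :
    finrank K (Fix σ (g 0)) = 4 ∧ finrank K (Fix σ (g 0 * wd g wb)) = 2 ∧
      finrank K (Fix σ (g 0) ⊓ Fix σ (wd g wb) : Submodule K V) = 0 := by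
  have hg : ∀ i, wd g [i] = g i := fun i => by simp [wd]
  have hpos := H.fix_ne hz hspan hn
  -- the eigenspaces of `a`
  have ra : wd g [1, 2, 2, 1] * g 0 = g 0 * g 0 * wd g [1, 2, 2, 1] := by
    have h1 : wd g [1, 2, 2, 1] * wd g [0] = wd g [0, 0] * wd g [1, 2, 2, 1] := H.rel (by decide +kernel)
    have h4 : wd g [0, 0] = g 0 * g 0 := by simp [wd]
    rwa [hg, h4] at h1
  obtain ⟨ζ, hζ, hd⟩ := eig_three (σ := σ) h3 (H.gcube 0) (y := wd g [1, 2, 2, 1]) (by rw [ra, mul_inv_cancel_right])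
  have hcom : ∀ A : List (Fin 5), codeW (A ++ [0]) = codeW ([0] ++ A) → wd g A * g 0 = g 0 * wd g A := by
    intro A h
    have h1 : wd g A * wd g [0] = wd g [0] * wd g A := H.rel h
    rwa [hg] at h1
  have ci := hcom wi (by decide +kernel)
  have cj := hcom wj (by decide +kernel)
  have hev : Even (finrank K (Eg σ (g 0) ζ)) := by
    refine even_sub h2 (σ (wd g wi)) (σ (wd g wj)) (H.sq_neg hz (by decide +kernel)) (H.sq_neg hz (by decide +kernel))
      (H.anti hz (by decide +kernel)) _ ?_ ?_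
    · intro w hw
      rw [mem_Eg] at hw ⊢
      rw [← mul_apply', ← ci, mul_apply', hw, map_smul]
    · intro w hw
      rw [mem_Eg] at hw ⊢
      rw [← mul_apply', ← cj, mul_apply', hw, map_smul]
  have h01 : z ∈ closure ({g 0, g 1} : Set D) := by
    have := H.z_mem (A := [0]) (B := [1]) [false, true, false, true] (by decide +kernel)
    rwa [hg, hg] at this
  have htwo := two_fix (σ := σ) hz h2 h01 ⊤
  rw [top_inf_eq, top_inf_eq, finrank_top, hn, H.conj_gen 1] at htwo
  have hfa : finrank K (Fix σ (g 0)) = 4 := by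
    obtain ⟨m, hm⟩ := hev
    omega
  -- the nine
  set b := wd g wb with hb
  have hb3 : b * b * b = 1 := H.wcube (by decide +kernel)
  have cab : g 0 * b = b * g 0 := (hcom wb (by decide +kernel)).symm
  have e9 := nine' (σ := σ) h3 (H.gcube 0) hb3 cab
  have fb : finrank K (Fix σ b) = finrank K (Fix σ (g 0)) := by
    have h1 : wd g [1, 0, 0, 2, 3] * wd g [0] = wd g wb * wd g [1, 0, 0, 2, 3] := H.rel (by decide +kernel)
    rw [hg] at h1
    exact fix_conj h1
  have faab : finrank K (Fix σ (g 0 * g 0 * b)) = finrank K (Fix σ (g 0 * b)) := by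
    have h1 : wd g [1, 0, 0, 2, 3] * wd g ([0] ++ wb) = wd g ([0, 0] ++ wb) * wd g [1, 0, 0, 2, 3] :=
      H.rel (by decide +kernel)
    have h4 : wd g [0, 0] = g 0 * g 0 := by simp [wd]
    rw [wd_append, wd_append, hg, h4] at h1
    exact fix_conj h1
  -- the fixed space of `E`
  have hc0 : finrank K (Fix σ (g 0) ⊓ Fix σ b : Submodule K V) + finrank K (Fix σ (g 0) ⊓ Fix σ b : Submodule K V) ≤ 4 := by
    have hbb : z ∈ closure ({b, wd g wb'} : Set D) :=
      H.z_mem (A := wb) (B := wb') [false, true, false, true] (by decide +kernel)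
    have h1 := two_fix (σ := σ) hz h2 hbb (Fix σ (g 0))
    have h4 : finrank K (Fix σ (g 0) ⊓ Fix σ b : Submodule K V) ≤
        finrank K (Fix σ (g 0) ⊓ Fix σ (wd g wb' * wd g wb') : Submodule K V) := by
      refine fix_conj_sub (c := wd g [1, 4, 3, 1, 4]) ?_ _ ?_
      · rw [hb, ← wd_append wb' wb']
        exact H.rel (by decide +kernel)
      · intro w hw
        have cc := hcom [1, 4, 3, 1, 4] (by decide +kernel)
        rw [mem_Fix] at hw ⊢
        rw [← mul_apply', ← cc, mul_apply', hw]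
    have h5 : Fix σ (wd g wb' * wd g wb') = Fix σ (wd g wb') := fix_sq (H.wcube (by decide +kernel))
    rw [h5] at h4
    omega
  -- the element `ab` is real
  have rab : wd g [1, 2, 2, 1] * (g 0 * b) = (g 0 * b) * (g 0 * b) * wd g [1, 2, 2, 1] := by
    have h1 : wd g [1, 2, 2, 1] * wd g ([0] ++ wb) = wd g (([0] ++ wb) ++ ([0] ++ wb)) * wd g [1, 2, 2, 1] :=
      H.rel (by decide +kernel)
    rw [wd_append ([0] ++ wb), wd_append [0] wb, hg] at h1
    exact h1
  have cab3 : g 0 * b * (g 0 * b) * (g 0 * b) = 1 := by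
    have h1 := H.wcube (A := [0] ++ wb) (by decide +kernel)
    rwa [wd_append, hg] at h1
  obtain ⟨ζ', hζ', hd'⟩ := eig_three (σ := σ) h3 cab3 (y := wd g [1, 2, 2, 1]) (by rw [rab, mul_inv_cancel_right])
  rw [fb, faab, hfa, hn] at e9
  rw [hn] at hd'
  refine ⟨hfa, ?_, ?_⟩ <;> omega

/-- **`p ≠ 2, 3, 7`.** -/
theorem Cov.path_a (hz : σ z = -1) (h2 : (2 : K) ≠ 0) (h3 : (3 : K) ≠ 0) (h7 : (7 : K) ≠ 0)
    (hspan : Submodule.span K (Set.range σ) = ⊤) (hn : finrank K V = 12) : False := by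
  have hg : ∀ i, wd g [i] = g i := fun i => by simp [wd]
  obtain ⟨fa, fab, -⟩ := H.three hz h2 h3 hspan hn
  have hc7 : wd g w7 ^ 7 = 1 := H.pow_one 7 (by decide +kernel)
  have hy3 : wd g wy * wd g wy * wd g wy = 1 := H.wcube (by decide +kernel)
  have hcy : wd g wy * wd g w7 * (wd g wy)⁻¹ = wd g w7 ^ 2 := by
    have h1 : wd g wy * wd g w7 = wd g (w7 ++ w7) * wd g wy := H.rel (by decide +kernel)
    rw [h1, mul_inv_cancel_right, wd_append, pow_two]
  have e7 := eig_seven (σ := σ) h7 hc7 hy3 hcy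
  have fy : finrank K (Fix σ (wd g wy)) = finrank K (Fix σ (g 0 * wd g wb)) := by
    have h1 : wd g [0, 1, 1, 4, 2, 3] * wd g ([0] ++ wb) = wd g wy * wd g [0, 1, 1, 4, 2, 3] :=
      H.rel (by decide +kernel)
    rw [wd_append [0] wb, hg] at h1
    exact fix_conj h1
  have hzm : z ∈ closure ({wd g w7, wd g w7'} : Set D) :=
    H.z_mem (A := w7) (B := w7') [false, false, true, true, false, false, true, true] (by decide +kernel)
  have hs := scott_sub (σ := σ) hz h2 hzm ⊤ (fun _ _ => trivial) (fun _ _ => trivial)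
  rw [top_inf_eq, top_inf_eq, top_inf_eq, finrank_top] at hs
  have f7' : finrank K (Fix σ (wd g w7')) = finrank K (Fix σ (wd g w7)) := by
    have h1 : wd g [1, 0, 0, 3, 2] * wd g w7 = wd g w7' * wd g [1, 0, 0, 3, 2] := H.rel (by decide +kernel)
    exact fix_conj h1
  have fp : finrank K (Fix σ (wd g w7 * wd g w7')) = finrank K (Fix σ (g 0)) := by
    have h1 : wd g [0, 3] * wd g [0] = wd g (w7 ++ w7') * wd g [0, 3] := H.rel (by decide +kernel)
    rw [hg, wd_append] at h1
    exact fix_conj h1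
  rw [f7', fp, fa, hn] at hs
  rw [fy, fab, hn] at e7
  omega

end Cfsg.Agent.H931.A7D
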