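import Cfsg.Agent.H931.A7D.Chk
import Cfsg.Agent.H882.Sc.Tools

/-!
# Representations of `2.A₇`: invariant subspaces, Scott's lemma, fixed spaces (helper931)
-/

set_option autoImplicit false
set_option linter.unusedSectionVars false

namespace Cfsg.Agent.H931.A7D

open Module Subgroup Cfsg.Agent.H637.JW Cfsg.Agent.H882.Dim Cfsg.Agent.H882.Sc Cfsg.Agent.H637.A7Cov

universe u

section general

variable {K : Type*} [Field K] {V : Type*} [AddCommGroup V] [Module K V] [FiniteDimensional K V]
  {G : Type*} [Group G] {σ : G →* Module.End K V}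

/-- `z` acts as `-1` and lies in the group generated by `x` and `y`: no common fixed vector -/
theorem no_fixed {z : G} (hz : σ z = -1) (h2 : (2 : K) ≠ 0) {x y : G} (hzm : z ∈ closure ({x, y} : Set G)) {v : V}
    (hx : σ x v = v) (hy : σ y v = v) : v = 0 := by
  have h1 : closure ({x, y} : Set G) ≤ stab σ v := by
    rw [closure_le]
    rintro g (rfl | rfl)
    · exact hx
    · exact hy
  have h3 : σ z v = v := h1 hzm
  rw [hz, LinearMap.neg_apply, Module.End.one_apply] at h3
  have h4 : (2 : K) • v = 0 := by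
    rw [two_smul]
    nth_rewrite 1 [← h3]
    exact neg_add_cancel v
  exact (smul_eq_zero.1 h4).resolve_left h2

theorem inv_inv {x : G} {W : Submodule K V} (hx : ∀ w ∈ W, σ x w ∈ W) {w : V} (hw : w ∈ W) : σ x⁻¹ w ∈ W := by
  let f : W →ₗ[K] W := (σ x).restrict hx
  have hf : Function.Injective f := by
    intro u v huv
    have h1 : σ x (u : V) = σ x (v : V) := congrArg Subtype.val huv
    exact Subtype.ext (injective x h1)
  obtain ⟨u, hu⟩ := LinearMap.injective_iff_surjective.1 hf ⟨w, hw⟩
  have h1 : σ x (u : V) = w := congrArg Subtype.val hu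
  rw [← h1, ← mul_apply', inv_mul_cancel, act_one]
  exact u.2

/-- **Scott's lemma** for an invariant subspace. -/
theorem scott_sub {z : G} (hz : σ z = -1) (h2 : (2 : K) ≠ 0) {x y : G} (hzm : z ∈ closure ({x, y} : Set G))
    (W : Submodule K V) (hx : ∀ w ∈ W, σ x w ∈ W) (hy : ∀ w ∈ W, σ y w ∈ W) :
    finrank K (W ⊓ Fix σ x : Submodule K V) + finrank K (W ⊓ Fix σ y : Submodule K V) +
      finrank K (W ⊓ Fix σ (x * y) : Submodule K V) ≤ finrank K W := by
  let R : G → Submodule K V := fun g => W.map (σ g - 1)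
  have hR : ∀ g, (∀ w ∈ W, σ g w ∈ W) → R g ≤ W := by
    rintro g hg _ ⟨w, hw, rfl⟩
    exact W.sub_mem (hg w hw) hw
  have hmem : ∀ g, ∀ w ∈ W, σ g w - w ∈ R g := fun g w hw => ⟨w, hw, rfl⟩
  have hdim : ∀ g, finrank K (R g) + finrank K (W ⊓ Fix σ g : Submodule K V) = finrank K W := by
    intro g
    have h1 := LinearMap.finrank_range_add_finrank_ker ((σ g - 1).comp W.subtype)
    have h3 : LinearMap.range ((σ g - 1).comp W.subtype) = R g := by
      rw [LinearMap.range_comp, Submodule.range_subtype]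
    have h4 : finrank K (LinearMap.ker ((σ g - 1).comp W.subtype)) = finrank K (W ⊓ Fix σ g : Submodule K V) := by
      have h5 : (LinearMap.ker ((σ g - 1).comp W.subtype)).map W.subtype = W ⊓ Fix σ g := by
        ext v
        simp only [Submodule.mem_map, LinearMap.mem_ker, LinearMap.comp_apply, Submodule.subtype_apply,
          LinearMap.sub_apply, Module.End.one_apply, sub_eq_zero, Submodule.mem_inf, mem_Fix]
        constructor
        · rintro ⟨w, hw, rfl⟩
          exact ⟨w.2, hw⟩
        · rintro ⟨hv, hf⟩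
          exact ⟨⟨v, hv⟩, hf, rfl⟩
      rw [← h5]
      exact (Submodule.finrank_map_subtype_eq _ _).symm
    rw [h3, h4] at h1
    exact h1
  set U := R x ⊔ R y with hU
  have hUW : U ≤ W := sup_le (hR x hx) (hR y hy)
  let T : Subgroup G :=
    { carrier := {g | ∀ w ∈ W, σ g w - w ∈ U}
      one_mem' := by
        intro w _
        rw [map_one, Module.End.one_apply, sub_self]
        exact U.zero_mem
      mul_mem' := by
        intro a b ha hb w hw
        have h1 : σ b w ∈ W := by
          have := W.add_mem (hUW (hb w hw)) hw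
          rwa [sub_add_cancel] at this
        rw [mul_apply', ← sub_add_sub_cancel _ (σ b w)]
        exact U.add_mem (ha _ h1) (hb w hw)
      inv_mem' := by
        intro a ha w hw
        have h0 : ∀ w ∈ W, σ a w ∈ W := fun w hw => by
          have := W.add_mem (hUW (ha w hw)) hw
          rwa [sub_add_cancel] at this
        have h1 := ha (σ a⁻¹ w) (inv_inv h0 hw)
        rw [← mul_apply', mul_inv_cancel, map_one, Module.End.one_apply] at h1
        rw [← neg_sub]
        exact U.neg_mem h1 }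
  have hT : closure {x, y} ≤ T := by
    rw [closure_le]
    rintro g (rfl | rfl)
    · exact fun v hv => (le_sup_left : R g ≤ U) (hmem g v hv)
    · exact fun v hv => (le_sup_right : R g ≤ U) (hmem g v hv)
  have hUtop : U = W := by
    refine le_antisymm hUW fun w hw => ?_
    have h1 : σ z w - w ∈ U := hT hzm w hw
    rw [hz, LinearMap.neg_apply, Module.End.one_apply] at h1
    have h3 : (-2 : K)⁻¹ • (-w - w) ∈ U := U.smul_mem _ h1
    have h4 : -w - w = (-2 : K) • w := by module
    rwa [h4, smul_smul, inv_mul_cancel₀ (neg_ne_zero.2 h2), one_smul] at h3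
  -- the injection
  let f : (W ⊓ Fix σ (x * y) : Submodule K V) →ₗ[K] V := (σ y - 1).comp (W ⊓ Fix σ (x * y)).subtype
  have hf : Function.Injective f := by
    rw [injective_iff_map_eq_zero]
    rintro ⟨v, hv, hvf⟩ h0
    have h3 : σ y v = v := sub_eq_zero.1 h0
    have h4 : σ x (σ y v) = v := by rw [← mul_apply']; exact mem_Fix.1 hvf
    rw [h3] at h4
    exact Subtype.ext (no_fixed hz h2 hzm h4 h3)
  have hr : LinearMap.range f ≤ R x ⊓ R y := by
    rintro _ ⟨⟨v, hv, hvf⟩, rfl⟩
    refine ⟨⟨-(σ y v), W.neg_mem (hy v hv), ?_⟩, ⟨v, hv, rfl⟩⟩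
    have h4 : σ x (σ y v) = v := by rw [← mul_apply']; exact mem_Fix.1 hvf
    change σ x (-(σ y v)) - -(σ y v) = σ y v - v
    rw [map_neg, h4]
    abel
  have h5 := Submodule.finrank_mono hr
  rw [LinearMap.finrank_range_of_inj hf] at h5
  have h6 := Submodule.finrank_sup_add_finrank_inf_eq (R x) (R y)
  rw [← hU, hUtop] at h6
  have h7 := hdim x
  have h8 := hdim y
  omega

/-- two elements generating a group containing `z`: the fixed spaces are independent -/
theorem two_fix {z : G} (hz : σ z = -1) (h2 : (2 : K) ≠ 0) {x y : G} (hzm : z ∈ closure ({x, y} : Set G))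
    (W : Submodule K V) : finrank K (W ⊓ Fix σ x : Submodule K V) + finrank K (W ⊓ Fix σ y : Submodule K V) ≤
      finrank K W := by
  have h1 : (W ⊓ Fix σ x) ⊓ (W ⊓ Fix σ y) = ⊥ := by
    rw [Submodule.eq_bot_iff]
    rintro v ⟨⟨-, hx⟩, ⟨-, hy⟩⟩
    exact no_fixed hz h2 hzm (mem_Fix.1 hx) (mem_Fix.1 hy)
  have h3 := Submodule.finrank_sup_add_finrank_inf_eq (W ⊓ Fix σ x) (W ⊓ Fix σ y)
  rw [h1, finrank_bot, add_zero] at h3
  rw [← h3]
  exact Submodule.finrank_mono (sup_le inf_le_left inf_le_left)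

/-- conjugation preserves the dimension of the fixed space of an invariant subspace -/
theorem fix_conj_sub {x y c : G} (h : c * x = y * c) (W : Submodule K V) (hc : ∀ w ∈ W, σ c w ∈ W) :
    finrank K (W ⊓ Fix σ x : Submodule K V) ≤ finrank K (W ⊓ Fix σ y : Submodule K V) := by
  refine finrank_le_of_map (σ := σ) c fun v hv => ?_
  refine ⟨hc v hv.1, mem_Fix.2 ?_⟩
  rw [← mul_apply', ← h, mul_apply', mem_Fix.1 hv.2]

theorem fix_pow {x : G} {v : V} (h : σ x v = v) (n : ℕ) : σ (x ^ n) v = v := by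
  induction n with
  | zero => rw [pow_zero, map_one, Module.End.one_apply]
  | succ n ih => rw [pow_succ, mul_apply', h, ih]

/-- **Parity.** -/
theorem even_sub [IsAlgClosed K] (h2 : (2 : K) ≠ 0) (X Y : Module.End K V) (hXX : ∀ v, X (X v) = -v)
    (hYY : ∀ v, Y (Y v) = -v) (hXY : ∀ v, X (Y v) = -(Y (X v))) (W : Submodule K V) (hX : ∀ w ∈ W, X w ∈ W)
    (hY : ∀ w ∈ W, Y w ∈ W) : Even (finrank K W) := by
  obtain ⟨s, hs⟩ := IsAlgClosed.exists_pow_nat_eq (-1 : K) (n := 2) (by norm_num)
  have hss : s * s = -1 := by rw [← pow_two, hs]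
  let A : K → Submodule K V := fun c => W ⊓ LinearMap.ker (X - algebraMap K _ c)
  have hA : ∀ c v, v ∈ A c ↔ v ∈ W ∧ X v = c • v := by
    intro c v
    simp only [A, Submodule.mem_inf, LinearMap.mem_ker, LinearMap.sub_apply, Module.algebraMap_end_apply, sub_eq_zero]
  have hle : ∀ c, finrank K (A c) ≤ finrank K (A (-c)) := by
    intro c
    let f : A c →ₗ[K] V := Y.comp (A c).subtype
    have hfi : Function.Injective f := by
      rw [injective_iff_map_eq_zero]
      rintro ⟨v, hv⟩ h0
      have h1 : Y v = 0 := h0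
      have h3 := hYY v
      rw [h1, map_zero] at h3
      exact Subtype.ext (neg_eq_zero.1 h3.symm)
    rw [← LinearMap.finrank_range_of_inj hfi]
    apply Submodule.finrank_mono
    rintro _ ⟨⟨v, hv⟩, rfl⟩
    rw [hA] at hv
    rw [hA]
    refine ⟨hY v hv.1, ?_⟩
    change X (Y v) = -c • Y v
    rw [hXY, hv.2, map_smul, neg_smul]
  have heq : finrank K (A s) = finrank K (A (-s)) := by
    have h1 := hle s
    have h3 := hle (-s)
    rw [neg_neg] at h3
    omega
  have hinf : A s ⊓ A (-s) = ⊥ := by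
    rw [Submodule.eq_bot_iff]
    rintro v ⟨h1, h3⟩
    have h1' := (hA _ _).1 h1
    have h3' := (hA _ _).1 h3
    have h4 : (2 * s) • v = 0 := by
      rw [two_mul, add_smul]
      nth_rewrite 1 [← h1'.2]
      rw [h3'.2, neg_smul, neg_add_cancel]
    have hs0 : s ≠ 0 := by
      rintro rfl
      rw [mul_zero] at hss
      exact one_ne_zero (neg_eq_zero.1 hss.symm)
    exact (smul_eq_zero.1 h4).resolve_left (mul_ne_zero h2 hs0)
  have hsup : A s ⊔ A (-s) = W := by
    refine le_antisymm (sup_le inf_le_left inf_le_left) fun w hw => ?_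
    have e1 : (2 : K)⁻¹ • (w - s • X w) ∈ A s := by
      rw [hA]
      refine ⟨W.smul_mem _ (W.sub_mem hw (W.smul_mem _ (hX w hw))), ?_⟩
      have h5 : s • (2 : K)⁻¹ • (w - s • X w) = ((2 : K)⁻¹ * s) • w - ((2 : K)⁻¹ * (s * s)) • X w := by module
      rw [map_smul, map_sub, map_smul, hXX, h5, hss]
      module
    have e2 : (2 : K)⁻¹ • (w + s • X w) ∈ A (-s) := by
      rw [hA]
      refine ⟨W.smul_mem _ (W.add_mem hw (W.smul_mem _ (hX w hw))), ?_⟩
      have h5 : (-s) • (2 : K)⁻¹ • (w + s • X w) = -(((2 : K)⁻¹ * s) • w) - ((2 : K)⁻¹ * (s * s)) • X w := by module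
      rw [map_smul, map_add, map_smul, hXX, h5, hss]
      module
    have e3 : w = (2 : K)⁻¹ • (w - s • X w) + (2 : K)⁻¹ • (w + s • X w) := by
      rw [← smul_add, sub_add_add_cancel, ← two_smul K, smul_smul, inv_mul_cancel₀ h2, one_smul]
    rw [e3]
    exact Submodule.add_mem_sup e1 e2
  have h3 := Submodule.finrank_sup_add_finrank_inf_eq (A s) (A (-s))
  rw [hinf, hsup, finrank_bot, add_zero] at h3
  exact ⟨_, by rw [h3, heq]⟩

end general

end Cfsg.Agent.H931.A7D
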